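import Cfsg.Agent.ChevalleyStructure.Tits.Sat

/-! The abstract part of the theorem on the Tits group. -/

set_option autoImplicit false

namespace Cfsg.Agent.ChevalleyStructure.Tits.Final

open Cfsg.Agent.ChevalleyStructure.Tits.Data Cfsg.Agent.ChevalleyStructure.Tits.Rank2
  Cfsg.Agent.ChevalleyStructure.Tits.Sat
open scoped commutatorElement

/-! ### index two subgroups and simplicity -/

section IndexTwo

variable {Γ : Type*} [Group Γ]

theorem normal_map_subtype {T : Subgroup Γ} [T.Normal] (hT : T.index = 2) {g : Γ} (hg : g ∉ T)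
    (R : Subgroup T) (hR : R.Normal) (hα : ∀ r ∈ R, MulAut.conjNormal g r ∈ R) :
    (R.map T.subtype).Normal := by
  constructor
  rintro _ ⟨r, hr, rfl⟩ x
  by_cases hx : x ∈ T
  · refine ⟨⟨x, hx⟩ * r * ⟨x, hx⟩⁻¹, hR.conj_mem r hr ⟨x, hx⟩, rfl⟩
  · have h1 : g⁻¹ * x ∈ T := by
      rw [Subgroup.mul_mem_iff_of_index_two hT]
      constructor
      · intro h; exact absurd ((T.inv_mem_iff).mp h) hg
      · intro h; exact absurd h hx
    have h2 := hα _ (hR.conj_mem r hr ⟨g⁻¹ * x, h1⟩)
    refine ⟨_, h2, ?_⟩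
    rw [Subgroup.coe_subtype, MulAut.conjNormal_apply]
    simp only [Subgroup.coe_mul, InvMemClass.coe_inv]
    group

theorem isSimple_of_index_two [Finite Γ] {T : Subgroup Γ} [hTn : T.Normal] (hT : T.index = 2)
    (hmin : ∀ N : Subgroup Γ, N.Normal → N ≠ ⊥ → T ≤ N) (hsq : ∀ m : ℕ, Nat.card T ≠ m * m) :
    IsSimpleGroup T := by
  have hnt : Nontrivial T := by
    by_contra h
    rw [not_nontrivial_iff_subsingleton] at h
    have : Nat.card T = 1 := Nat.card_eq_one_iff_unique.mpr ⟨h, ⟨1⟩⟩
    exact hsq 1 (by rw [this])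
  have hex : ∃ g : Γ, g ∉ T := by
    by_contra h
    push Not at h
    have : T = ⊤ := (Subgroup.eq_top_iff' T).mpr h
    rw [this, Subgroup.index_top] at hT
    omega
  obtain ⟨g, hg⟩ := hex
  have hgg : g * g ∈ T := by
    rw [Subgroup.mul_mem_iff_of_index_two hT]
  refine { exists_pair_ne := hnt.exists_pair_ne, eq_bot_or_eq_top_of_normal := ?_ }
  intro S hS
  by_contra hcon
  push Not at hcon
  obtain ⟨hSb, hSt⟩ := hcon
  set α : MulAut T := MulAut.conjNormal g with hαdef
  set S' : Subgroup T := S.map α.toMonoidHom with hS'def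
  have hS' : S'.Normal := hS.map _ α.surjective
  have hαS : ∀ r ∈ S, α r ∈ S' := fun r hr => ⟨r, hr, rfl⟩
  have hαS' : ∀ r ∈ S', α r ∈ S := by
    rintro _ ⟨s, hs, rfl⟩
    have h1 : α (α s) = ⟨g * g, hgg⟩ * s * ⟨g * g, hgg⟩⁻¹ := by
      apply Subtype.ext
      simp only [hαdef, MulAut.conjNormal_apply, Subgroup.coe_mul, InvMemClass.coe_inv]
      group
    have h2 : α.toMonoidHom s = α s := rfl
    rw [h2, h1]
    exact hS.conj_mem s hs _
  -- the intersection
  have hI : S ⊓ S' = ⊥ := by
    by_contra hne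
    have hn : ((S ⊓ S').map T.subtype).Normal :=
      normal_map_subtype hT hg (S ⊓ S') (Subgroup.normal_inf_normal S S')
        (fun r hr => ⟨hαS' r hr.2, hαS r hr.1⟩)
    have hne2 : (S ⊓ S').map T.subtype ≠ ⊥ := by
      intro h
      rw [Subgroup.map_eq_bot_iff_of_injective _ T.subtype_injective] at h
      exact hne h
    have h3 := hmin _ hn hne2
    apply hSt
    rw [Subgroup.eq_top_iff']
    intro t
    obtain ⟨r, hr, hrt⟩ := h3 t.2
    have : r = t := Subtype.ext hrt
    rw [← this]; exact hr.1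
  -- the join
  have hJ : S ⊔ S' = ⊤ := by
    have hsupn : (S ⊔ S').Normal := Subgroup.sup_normal S S'
    have hmapS : S.map α.toMonoidHom ≤ S' := by
      rintro _ ⟨r, hr, rfl⟩; exact hαS r hr
    have hmapS' : S'.map α.toMonoidHom ≤ S := by
      rintro _ ⟨r, hr, rfl⟩; exact hαS' r hr
    have hn : ((S ⊔ S').map T.subtype).Normal := by
      apply normal_map_subtype hT hg (S ⊔ S') hsupn
      intro r hr
      have h4 : (S ⊔ S').map α.toMonoidHom ≤ S ⊔ S' := by
        rw [Subgroup.map_sup]
        exact sup_le (hmapS.trans le_sup_right) (hmapS'.trans le_sup_left)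
      exact h4 ⟨r, hr, rfl⟩
    have hne2 : (S ⊔ S').map T.subtype ≠ ⊥ := by
      intro h
      rw [Subgroup.map_eq_bot_iff_of_injective _ T.subtype_injective] at h
      exact hSb (le_bot_iff.mp (h ▸ le_sup_left))
    have h3 := hmin _ hn hne2
    rw [Subgroup.eq_top_iff']
    intro t
    obtain ⟨r, hr, hrt⟩ := h3 t.2
    have : r = t := Subtype.ext hrt
    rw [← this]; exact hr
  have hc : Subgroup.IsComplement' S S' := by
    apply Subgroup.isComplement'_of_disjoint_and_mul_eq_univ (disjoint_iff.mpr hI)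
    rw [← Subgroup.mul_normal S S', hJ, Subgroup.coe_top]
  have hcard := hc.card_mul_card
  have hcard2 : Nat.card S' = Nat.card S := Nat.card_congr (S.equivMapOfInjective α.toMonoidHom α.injective).symm.toEquiv
  rw [hcard2] at hcard
  exact hsq _ hcard.symm

end IndexTwo

/-! ### product trick -/

theorem prod_map_prod {A B : Type*} [Group A] [Group B] (a : ℕ → A) (b : ℕ → B) (l : List ℕ) :
    (l.map fun i => (a i, b i)).prod = ((l.map a).prod, (l.map b).prod) := by
  induction l with
  | nil => rfl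
  | cons x l ih => simp only [List.map_cons, List.prod_cons, ih, Prod.mk_mul_mk]

theorem Sat_prod {A B : Type*} [Group A] [Group B] {a : ℕ → A} {b : ℕ → B} (ha : Sat a) (hb : Sat b) :
    Sat (fun i => (a i, b i)) := by
  intro p hp
  rw [prod_map_prod, prod_map_prod, ha p hp, hb p hp]

/-- the sign letters -/
def sg (i : ℕ) : ℤˣ := if i < 8 ∧ i % 2 = 1 then -1 else 1

theorem Sat_sg : Sat sg := by
  unfold Sat
  decide +kernel

section Main

variable {Γ : Type*} [Group Γ] {y : ℕ → Γ} (hy : Sat y)

include hy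

theorem gen4 (S : Subgroup Γ) (h0 : y 0 ∈ S) (h7 : y 7 ∈ S) (h8 : y 8 ∈ S) (h9 : y 9 ∈ S) :
    Subgroup.closure (y '' {i | i < 10}) ≤ S := by
  have h1 : y 1 ∈ S := by
    have := n1_conj hy (j := 7) (by norm_num) (by norm_num)
    rw [show 8 - 7 = 1 from rfl] at this
    rw [← this]; exact S.mul_mem (S.mul_mem h8 h7) h8
  have h6 : y 6 ∈ S := by
    have := n2_conj hy (j := 0) (by norm_num)
    rw [show 6 - 0 = 6 from rfl] at this
    rw [← this]; exact S.mul_mem (S.mul_mem h9 h0) h9
  have h2 : y 2 ∈ S := by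
    have := n1_conj hy (j := 6) (by norm_num) (by norm_num)
    rw [show 8 - 6 = 2 from rfl] at this
    rw [← this]; exact S.mul_mem (S.mul_mem h8 h6) h8
  have h5 : y 5 ∈ S := by
    have := n2_conj hy (j := 1) (by norm_num)
    rw [show 6 - 1 = 5 from rfl] at this
    rw [← this]; exact S.mul_mem (S.mul_mem h9 h1) h9
  have h3 : y 3 ∈ S := by
    have := n1_conj hy (j := 5) (by norm_num) (by norm_num)
    rw [show 8 - 5 = 3 from rfl] at this
    rw [← this]; exact S.mul_mem (S.mul_mem h8 h5) h8
  have h4 : y 4 ∈ S := by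
    have := n2_conj hy (j := 2) (by norm_num)
    rw [show 6 - 2 = 4 from rfl] at this
    rw [← this]; exact S.mul_mem (S.mul_mem h9 h2) h9
  rw [Subgroup.closure_le]
  rintro _ ⟨i, hi, rfl⟩
  have hi' : i < 10 := hi
  interval_cases i <;> assumption

/-- images of the letters in an abelian quotient -/
theorem comm_image {A : Type*} [CommGroup A] (φ : Γ →* A) :
    φ (y 0) = 1 ∧ φ (y 8) = 1 ∧ φ (y 9) = 1 ∧ φ (y 7) * φ (y 7) = 1 := by
  have a2 := congrArg φ (pow_od hy (i := 0) (by norm_num))
  have n1 := congrArg φ (n1n1 hy)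
  have n2 := congrArg φ (n2n2 hy)
  have e1 := congrArg φ (hy ([8, 0, 8], [0, 8, 0]) (by decide +kernel))
  have e2 := congrArg φ (hy ([9, 7, 9], [7, 9, 7, 7]) (by decide +kernel))
  have e3 := congrArg φ (hy ([0, 3], [1, 1, 3, 0]) (by decide +kernel))
  have e4 := congrArg φ (hy ([1, 3], [2, 3, 1]) (by decide +kernel))
  have c1 := congrArg φ (n1_conj hy (j := 7) (by norm_num) (by norm_num))
  have c6 := congrArg φ (n2_conj hy (j := 0) (by norm_num))
  have c2 := congrArg φ (n1_conj hy (j := 6) (by norm_num) (by norm_num))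
  have c5 := congrArg φ (n2_conj hy (j := 1) (by norm_num))
  have c3 := congrArg φ (n1_conj hy (j := 5) (by norm_num) (by norm_num))
  simp only [List.map_cons, List.map_nil, List.prod_cons, List.prod_nil, mul_one, map_mul, map_one, map_pow,
    Nat.reduceSub] at a2 n1 n2 e1 e2 e3 e4 c1 c6 c2 c5 c3
  have hod : od 0 = 2 := rfl
  rw [hod, pow_two] at a2
  generalize φ (y 0) = a at *
  generalize φ (y 7) = c at *
  generalize φ (y 8) = m at *
  generalize φ (y 9) = n at *
  generalize φ (y 1) = r1 at *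
  generalize φ (y 2) = r2 at *
  generalize φ (y 3) = r3 at *
  generalize φ (y 5) = r5 at *
  generalize φ (y 6) = r6 at *
  -- conjugates are equal to the original
  have hm : ∀ x : A, m * x * m = x := fun x => by
    rw [mul_comm m x, mul_assoc, n1, mul_one]
  have hn : ∀ x : A, n * x * n = x := fun x => by
    rw [mul_comm n x, mul_assoc, n2, mul_one]
  rw [hm] at c1 c2 c3
  rw [hn] at c6 c5
  subst c1 c6
  subst c2 c5
  subst c3
  -- c * c = 1
  have hcc : c * c = 1 := by
    have h : a * c = (c * c) * (a * c) := by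
      conv_lhs => rw [e3]
      rw [mul_comm a c]
      simp only [mul_assoc]
    have h2 : 1 * (a * c) = (c * c) * (a * c) := by rw [one_mul]; exact h
    exact (mul_right_cancel h2).symm
  have ha : a = 1 := by
    have h : c * c = a * (c * c) := e4
    rw [hcc, mul_one] at h
    exact h.symm
  have hmm : m = 1 := by
    rw [ha] at e1
    simp only [one_mul, mul_one] at e1
    rw [n1] at e1
    exact e1.symm
  have hnn : n = 1 := by
    have h : n * (c * n) = c := by rw [← mul_assoc]; exact hn c
    rw [h, hcc, mul_one] at e2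
    -- c = c * n
    have h2 : c * 1 = c * n := by rw [mul_one]; exact e2
    exact (mul_left_cancel h2).symm
  exact ⟨ha, hmm, hnn, hcc⟩

variable (hgen : Subgroup.closure (y '' {i | i < 10}) = ⊤)

include hgen

theorem index_commutator_le : (commutator Γ).index ∣ 2 := by
  have h := comm_image hy (Abelianization.of (G := Γ))
  obtain ⟨h0, h8, h9, h77⟩ := h
  have hz : (Subgroup.zpowers (Abelianization.of (y 7))).comap (Abelianization.of (G := Γ)) = ⊤ := by
    rw [eq_top_iff, ← hgen]
    apply gen4 hy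
    · rw [Subgroup.mem_comap, h0]; exact Subgroup.one_mem _
    · rw [Subgroup.mem_comap]; exact Subgroup.mem_zpowers _
    · rw [Subgroup.mem_comap, h8]; exact Subgroup.one_mem _
    · rw [Subgroup.mem_comap, h9]; exact Subgroup.one_mem _
  have hz2 : ∀ q : Abelianization Γ, q ∈ Subgroup.zpowers (Abelianization.of (y 7)) := by
    intro q
    obtain ⟨g, rfl⟩ := QuotientGroup.mk_surjective q
    have : g ∈ (Subgroup.zpowers (Abelianization.of (y 7))).comap (Abelianization.of (G := Γ)) := by
      rw [hz]; trivial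
    exact this
  have hcard : Nat.card (Abelianization Γ) = orderOf (Abelianization.of (y 7)) :=
    (orderOf_eq_card_of_forall_mem_zpowers hz2).symm
  have h2 : orderOf (Abelianization.of (y 7)) ∣ 2 := by
    apply orderOf_dvd_of_pow_eq_one
    rw [pow_two]; exact h77
  rw [← hcard] at h2
  exact h2

theorem exists_sign [Finite Γ] (hcard : Nat.card Γ = 35942400) : ∃ χ : Γ →* ℤˣ, χ (y 7) = -1 := by
  set z : ℕ → Γ × ℤˣ := fun i => (y i, sg i) with hz
  have hs : Sat z := Sat_prod hy Sat_sg
  obtain ⟨hfin, hle⟩ := card_le hs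
  set D := Subgroup.closure (z '' {i | i < 10}) with hD
  let f : D →* Γ := (MonoidHom.fst Γ ℤˣ).comp D.subtype
  have hsurj : Function.Surjective f := by
    rw [← MonoidHom.range_eq_top, eq_top_iff, ← hgen, Subgroup.closure_le]
    rintro _ ⟨i, hi, rfl⟩
    exact ⟨⟨z i, Subgroup.subset_closure ⟨i, hi, rfl⟩⟩, rfl⟩
  have hbij : Function.Bijective f := hsurj.bijective_of_nat_card_le (by rw [hcard]; exact hle)
  let e : D ≃* Γ := MulEquiv.ofBijective f hbij
  refine ⟨((MonoidHom.snd Γ ℤˣ).comp D.subtype).comp e.symm.toMonoidHom, ?_⟩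
  have h7 : e ⟨z 7, Subgroup.subset_closure ⟨7, by show 7 < 10; norm_num, rfl⟩⟩ = y 7 := rfl
  rw [← h7]
  show ((MonoidHom.snd Γ ℤˣ).comp D.subtype) (e.symm (e _)) = -1
  rw [MulEquiv.symm_apply_apply]
  rfl

theorem index_commutator [Finite Γ] (hcard : Nat.card Γ = 35942400) : (commutator Γ).index = 2 := by
  obtain ⟨χ, hχ⟩ := exists_sign hy hgen hcard
  have h1 := index_commutator_le hy hgen
  rcases (Nat.dvd_prime Nat.prime_two).mp h1 with h | h
  · exfalso
    rw [Subgroup.index_eq_one] at h
    have h2 : commutator Γ ≤ χ.ker := Abelianization.commutator_subset_ker χ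
    rw [h] at h2
    have h3 : y 7 ∈ χ.ker := h2 trivial
    rw [MonoidHom.mem_ker, hχ] at h3
    exact absurd h3 (by decide)
  · exact h

/-- a normal supplement to a group of order 4096 contains the derived subgroup -/
theorem commutator_le_of_sup (N : Subgroup Γ) [hN : N.Normal] (hU : Nat.card (V y 0) = 4096)
    (hsup : N ⊔ V y 0 = ⊤) : commutator Γ ≤ N := by
  have hpow : ∀ g : Γ, g ^ 4096 ∈ N := by
    intro g
    have hg : g ∈ N ⊔ V y 0 := by rw [hsup]; trivial
    obtain ⟨m, hm, u, hu, rfl⟩ := Subgroup.mem_sup_of_normal_left.mp hg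
    have hu2 : u ^ 4096 = 1 := by
      have h1 : (⟨u, hu⟩ : V y 0) ^ Nat.card (V y 0) = 1 := pow_card_eq_one'
      rw [hU] at h1
      exact congrArg Subtype.val h1
    rw [← QuotientGroup.eq_one_iff, QuotientGroup.mk_pow, QuotientGroup.mk_mul,
      (QuotientGroup.eq_one_iff m).mpr hm, one_mul, ← QuotientGroup.mk_pow, hu2, QuotientGroup.mk_one]
  have hodd : ∀ (g : Γ) (m : ℕ), g ^ m = 1 → 4096 % m = 1 → g ∈ N := by
    intro g m h1 h2
    have h3 := hpow g
    have h4 : 4096 = m * (4096 / m) + 1 := by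
      conv_lhs => rw [← Nat.div_add_mod 4096 m, h2]
    rw [h4, pow_succ, pow_mul, h1, one_pow, one_mul] at h3
    exact h3
  have t3 : y 8 * y 0 ∈ N := by
    apply hodd _ 3 _ (by norm_num)
    have h := hy ([8, 0, 8, 0, 8, 0], []) (by decide +kernel)
    simp only [List.map_cons, List.map_nil, List.prod_cons, List.prod_nil, mul_one] at h
    rw [← h, pow_succ, pow_succ, pow_succ, pow_zero, one_mul]
    simp only [mul_assoc]
  have t5 : y 9 * (y 7 * y 7) ∈ N := by
    apply hodd _ 5 _ (by norm_num)
    have h := hy ([9, 7, 7, 9, 7, 7, 9, 7, 7, 9, 7, 7, 9, 7, 7], []) (by decide +kernel)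
    simp only [List.map_cons, List.map_nil, List.prod_cons, List.prod_nil, mul_one] at h
    rw [← h, pow_succ, pow_succ, pow_succ, pow_succ, pow_succ, pow_zero, one_mul]
    simp only [mul_assoc]
  set π := QuotientGroup.mk' N with hπ
  have p3 : π (y 8) * π (y 0) = 1 := by
    rw [← map_mul]; exact (QuotientGroup.eq_one_iff _).mpr t3
  have p5 : π (y 9) * (π (y 7) * π (y 7)) = 1 := by
    rw [← map_mul, ← map_mul]; exact (QuotientGroup.eq_one_iff _).mpr t5
  have a2 : π (y 0) * π (y 0) = 1 := by
    rw [← map_mul, ← pow_two]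
    have := pow_od hy (i := 0) (by norm_num)
    have hod : od 0 = 2 := rfl
    rw [hod] at this
    rw [this, map_one]
  have h80 : π (y 8) = π (y 0) := by
    have : π (y 8) * π (y 0) = π (y 0) * π (y 0) := by rw [p3, a2]
    exact mul_right_cancel this
  have e1 : π (y 8) * π (y 7) * π (y 8) = π (y 1) := by
    rw [← map_mul, ← map_mul]
    exact congrArg π (n1_conj hy (j := 7) (by norm_num) (by norm_num))
  have e2 : π (y 0) * π (y 1) = π (y 1) * π (y 0) := by
    have h := hy ([0, 1], [1, 0]) (by decide +kernel)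
    simp only [List.map_cons, List.map_nil, List.prod_cons, List.prod_nil, mul_one] at h
    rw [← map_mul, ← map_mul, h]
  have hcomm : π (y 7) * π (y 0) = π (y 0) * π (y 7) := by
    rw [← e1, h80] at e2
    calc π (y 7) * π (y 0) = (π (y 0) * π (y 0)) * π (y 7) * π (y 0) := by rw [a2, one_mul]
      _ = π (y 0) * (π (y 0) * π (y 7) * π (y 0)) := by simp only [mul_assoc]
      _ = π (y 0) * π (y 7) * π (y 0) * π (y 0) := e2
      _ = π (y 0) * π (y 7) * (π (y 0) * π (y 0)) := by simp only [mul_assoc]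
      _ = π (y 0) * π (y 7) := by rw [a2, mul_one]
  have h9 : π (y 9) = (π (y 7) * π (y 7))⁻¹ := eq_inv_of_mul_eq_one_left p5
  -- everything is generated by two commuting elements
  have hZ : ∀ z : Γ ⧸ N, z * π (y 0) = π (y 0) * z → z * π (y 7) = π (y 7) * z → ∀ g : Γ, z * π g = π g * z := by
    intro z hz0 hz7 g
    have hle : Subgroup.closure (y '' {i | i < 10}) ≤ (Subgroup.centralizer {z}).comap π := by
      apply gen4 hy
      · rw [Subgroup.mem_comap, Subgroup.mem_centralizer_singleton_iff]; exact hz0.symm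
      · rw [Subgroup.mem_comap, Subgroup.mem_centralizer_singleton_iff]; exact hz7.symm
      · rw [Subgroup.mem_comap, Subgroup.mem_centralizer_singleton_iff, h80]; exact hz0.symm
      · rw [Subgroup.mem_comap, h9]
        apply Subgroup.inv_mem
        apply Subgroup.mul_mem <;>
        · rw [Subgroup.mem_centralizer_singleton_iff]; exact hz7.symm
    rw [hgen] at hle
    have := hle (Subgroup.mem_top g)
    rw [Subgroup.mem_comap, Subgroup.mem_centralizer_singleton_iff] at this
    exact this.symm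
  have hA := hZ (π (y 0)) rfl hcomm.symm
  have hC := hZ (π (y 7)) hcomm rfl
  have hall : ∀ g h : Γ, π g * π h = π h * π g := by
    intro g h
    exact hZ (π g) (hA g).symm (hC g).symm h
  rw [commutator_def, Subgroup.commutator_le]
  intro g _ h _
  rw [← QuotientGroup.eq_one_iff]
  have h1 : ((⁅g, h⁆ : Γ) : Γ ⧸ N) = π g * π h * (π g)⁻¹ * (π h)⁻¹ := by
    rw [commutatorElement_def]; rfl
  rw [h1, hall g h]
  group

/-- The abstract form of the theorem on the Tits group. -/
theorem main [Finite Γ] (hcard : Nat.card Γ = 35942400) (hU : Nat.card (V y 0) = 4096)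
    (hcore : ∀ N : Subgroup Γ, N.Normal → N ≤ V y 0 → N = ⊥) (h0 : y 0 ≠ 1) (h7 : y 7 ≠ 1) :
    (commutator Γ).index = 2 ∧ IsSimpleGroup (commutator Γ) ∧ ¬ IsMulCommutative (commutator Γ) ∧
      Nat.card (commutator Γ) = 2 ^ 11 * 3 ^ 3 * 5 ^ 2 * 13 := by
  have hidx := index_commutator hy hgen hcard
  have hc : Nat.card (commutator Γ) = 17971200 := by
    have h := (commutator Γ).card_mul_index
    rw [hidx, hcard] at h
    omega
  have hmin : ∀ N : Subgroup Γ, N.Normal → N ≠ ⊥ → commutator Γ ≤ N := by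
    intro N hN hne
    have := hN
    apply commutator_le_of_sup hy hgen N hU
    refine (rd hy).normal_sup_U ?_ ?_ N ?_
    · rw [rd_G hy, hgen]
    · intro s
      cases s
      · exact ⟨y 0, Subgroup.mem_zpowers _, h0⟩
      · exact ⟨y 7, Subgroup.mem_zpowers _, h7⟩
    · intro hle
      exact hne (hcore N hN hle)
  have hsimple : IsSimpleGroup (commutator Γ) := by
    apply isSimple_of_index_two hidx hmin
    intro m hm
    rw [hc] at hm
    have h1 : m < 4240 := by
      by_contra h
      push Not at h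
      have := Nat.mul_le_mul h h
      omega
    have h2 : 4239 < m := by
      by_contra h
      push Not at h
      have := Nat.mul_le_mul h h
      omega
    omega
  refine ⟨hidx, hsimple, ?_, by rw [hc]; norm_num⟩
  intro hcomm
  let _ : CommGroup (commutator Γ) :=
    { (inferInstance : Group (commutator Γ)) with mul_comm := isMulCommutative_iff.mp hcomm }
  have hp := IsSimpleGroup.prime_card (α := commutator Γ)
  rw [hc] at hp
  exact absurd hp (by norm_num)

end Main

end Cfsg.Agent.ChevalleyStructure.Tits.Final
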