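import Cfsg.Agent.ChevalleyStructure.Tits.Data
import Cfsg.Prelude.Def_LieTwisted

/-! The root elements `x_r(1)` of F₄ over `ZMod 2` in packed form. -/

set_option autoImplicit false

namespace Cfsg.Agent.ChevalleyStructure.Tits.Table

open Cfsg.Agent.ChevalleyStructure.Tits.Pack Cfsg.Agent.ChevalleyStructure.Tits.Data Cfsg.Lie

/-- sum of the chain coefficients -/
def cs (r s u : ℕ) : ℤ := ((chevF4.chainCoeff r s u).map fun km => km.2).sum

theorem chain_sum_one (r s u : ℕ) :
    ((chevF4.chainCoeff r s u).map fun km => ((km.2 : ℤ) : ZMod 2) * (1 : ZMod 2) ^ km.1).sum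
      = ((cs r s u : ℤ) : ZMod 2) := by
  unfold cs
  generalize chevF4.chainCoeff r s u = L
  induction L with
  | nil => simp
  | cons a L ih =>
    simp only [List.map_cons, List.sum_cons, one_pow, mul_one, Int.cast_add] at ih ⊢
    rw [ih]

/-- integer entry of `x_r(1)` -/
def entN (r i j : ℕ) : ℤ :=
  if j < 4 then
    (if i < 4 then (if i = j then 1 else 0)
      else if i = 4 + r then - ((chevF4.cartanSR.getD j #[]).getD r 0) else 0)
  else if j = 4 + r then (if i = 4 + r then 1 else 0)
  else if j = 4 + chevF4.negIdx.getD r 0 then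
    (if i < 4 then (chevF4.coroot.getD r #[]).getD i 0
      else if i = j then 1 else if i = 4 + r then -1 else 0)
  else
    (if i < 4 then 0 else (if i = j then 1 else 0) + cs r (j - 4) (i - 4))

theorem xMat_ll (r : Fin 48) (i j : Fin 4) :
    chevF4.xMat (ZMod 2) r 1 (Sum.inl i) (Sum.inl j) = if i = j then 1 else 0 := rfl

theorem xMat_rl (r u : Fin 48) (j : Fin 4) :
    chevF4.xMat (ZMod 2) r 1 (Sum.inr u) (Sum.inl j) =
      if u = r then - (((chevF4.cartanSR.getD j.val #[]).getD r.val 0 : ℤ) : ZMod 2) * 1 else 0 := rfl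

theorem xMat_lr (r s : Fin 48) (i : Fin 4) :
    chevF4.xMat (ZMod 2) r 1 (Sum.inl i) (Sum.inr s) =
      if s = r then 0 else if s.val = chevF4.negIdx.getD r.val 0 then
        (((chevF4.coroot.getD r.val #[]).getD i.val 0 : ℤ) : ZMod 2) * 1 else 0 := rfl

theorem xMat_rr (r s u : Fin 48) :
    chevF4.xMat (ZMod 2) r 1 (Sum.inr u) (Sum.inr s) =
      if s = r then (if u = r then 1 else 0) else if s.val = chevF4.negIdx.getD r.val 0 then
        (if u = s then 1 else if u = r then -((1 : ZMod 2) ^ 2) else 0)
      else (if u = s then 1 else 0) +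
        ((chevF4.chainCoeff r.val s.val u.val).map fun km => ((km.2 : ℤ) : ZMod 2) * (1 : ZMod 2) ^ km.1).sum :=
  rfl

theorem xMat_one (r : Fin 48) (row col : Fin 4 ⊕ Fin 48) :
    chevF4.xMat (ZMod 2) r 1 row col = ((entN r.val (ix row) (ix col) : ℤ) : ZMod 2) := by
  rcases col with j | s
  · have hj : j.val < 4 := j.isLt
    rcases row with i | u
    · have hi : i.val < 4 := i.isLt
      refine (xMat_ll _ _ _).trans ?_
      simp only [entN, ix_inl, hj, hi, if_true]
      by_cases h : i = j
      · subst h; simp
      · have h2 : ¬ (i.val = j.val) := fun h3 => h (Fin.ext h3)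
        simp [h, h2]
    · have hu : ¬ (4 + u.val < 4) := by omega
      refine (xMat_rl _ _ _).trans ?_
      simp only [entN, ix_inl, ix_inr, hj, hu, if_true, if_false]
      by_cases h : u = r
      · subst h; simp
      · have h2 : ¬ (u.val = r.val) := fun h3 => h (Fin.ext (by omega))
        simp [h, h2]
  · have hs : ¬ (4 + s.val < 4) := by omega
    by_cases hsr : s = r
    · subst hsr
      rcases row with i | u
      · have h2 : ¬ (i.val = 4 + s.val) := by omega
        refine (xMat_lr _ _ _).trans ?_
        simp [entN, ix_inl, ix_inr, h2]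
      · refine (xMat_rr _ _ _).trans ?_
        simp only [entN, ix_inr, if_true, hs, if_false]
        by_cases h : u = s
        · subst h; simp
        · have h2 : ¬ (u.val = s.val) := fun h3 => h (Fin.ext (by omega))
          simp [h, h2]
    · have hsr2 : ¬ (4 + s.val = 4 + r.val) := fun h3 => hsr (Fin.ext (by omega))
      by_cases hneg : s.val = chevF4.negIdx.getD r.val 0
      · have hneg2 : 4 + s.val = 4 + chevF4.negIdx.getD r.val 0 := by omega
        rcases row with i | u
        · have hi : i.val < 4 := i.isLt
          refine (xMat_lr _ _ _).trans ?_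
          simp only [entN, ix_inl, ix_inr, hs, hsr, hsr2, if_false,
            if_pos hneg, if_pos hneg2, hi, if_true, mul_one]
        · have hu : ¬ (4 + u.val < 4) := by omega
          refine (xMat_rr _ _ _).trans ?_
          simp only [entN, ix_inr, hs, hsr, hsr2, if_false,
            if_pos hneg, if_pos hneg2, hu]
          by_cases h : u = s
          · subst h; simp
          · have h2 : ¬ (u.val = s.val) := fun h3 => h (Fin.ext (by omega))
            by_cases h3 : u = r
            · subst h3; simp [h, h2]
            · have h4 : ¬ (u.val = r.val) := fun h3' => h3 (Fin.ext (by omega))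
              simp [h, h2, h3, h4]
      · have hneg2 : ¬ (4 + s.val = 4 + chevF4.negIdx.getD r.val 0) := by omega
        rcases row with i | u
        · have hi : i.val < 4 := i.isLt
          refine (xMat_lr _ _ _).trans ?_
          simp only [entN, ix_inl, ix_inr, hs, hsr, hsr2, if_false,
            if_neg hneg, if_neg hneg2, hi, if_true, Int.cast_zero]
        · have hu : ¬ (4 + u.val < 4) := by omega
          refine (xMat_rr _ _ _).trans ?_
          simp only [entN, ix_inr, hs, hsr, hsr2, if_false,
            if_neg hneg, if_neg hneg2, hu]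
          have h5 : 4 + s.val - 4 = s.val := by omega
          have h6 : 4 + u.val - 4 = u.val := by omega
          rw [chain_sum_one, h5, h6]
          by_cases h : u = s
          · subst h; simp
          · have h2 : ¬ (u.val = s.val) := fun h3 => h (Fin.ext (by omega))
            simp [h, h2]

/-- check of a packed letter against the table -/
def chkX (r k : ℕ) : Bool :=
  (List.range 52).all fun j => (List.range 52).all fun i =>
    (Nat.beq ((entN r i j).natAbs % 2) 1) == (LP k).testBit (52 * j + i)

theorem cast_eq_bz (z : ℤ) : ((z : ℤ) : ZMod 2) = bz (Nat.beq (z.natAbs % 2) 1) := by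
  have h : (z : ZMod 2) = ((z.natAbs : ℕ) : ZMod 2) := by
    rcases Int.natAbs_eq z with h | h
    · rw [h]; simp
    · rw [h, Int.cast_neg, ZMod.neg_eq_self_mod_two]; simp
  rw [h, ← ZMod.natCast_mod]
  rcases Nat.mod_two_eq_zero_or_one z.natAbs with h2 | h2 <;> rw [h2] <;> rfl

theorem x_eq_of_chk (r k : ℕ) (hr : r < 48) (h : chkX r k = true) :
    chevF4.x (ZMod 2) r 1 = toMat (LP k) := by
  have h1 : chevF4.x (ZMod 2) r 1 = chevF4.xMat (ZMod 2) (⟨r, hr⟩ : Fin 48) 1 := by
    unfold ChevalleyDatum.x
    exact dif_pos hr
  rw [h1]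
  apply Matrix.ext
  intro row col
  refine (xMat_one ⟨r, hr⟩ row col).trans ?_
  refine Eq.trans ?_ (toMat_apply (LP k) row col).symm
  rw [cast_eq_bz]
  unfold chkX at h
  rw [List.all_eq_true] at h
  have h2 := h (ix col) (List.mem_range.mpr (ix_lt col))
  rw [List.all_eq_true] at h2
  have h3 := h2 (ix row) (List.mem_range.mpr (ix_lt row))
  rw [beq_iff_eq] at h3
  rw [h3]

theorem chk_all : ([(33, 12), (24, 13), (14, 14), (23, 15), (27, 16), (25, 17), (28, 18), (30, 19), (20, 20),
    (22, 21), (19, 22), (17, 23)] : List (ℕ × ℕ)).all (fun p => chkX p.1 p.2) = true := by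
  decide +kernel

end Cfsg.Agent.ChevalleyStructure.Tits.Table
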