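import Cfsg.Agent.ChevalleyStructure.Tits.Order
import Cfsg.Agent.ChevalleyStructure.Tits.Table

/-! ²F₄(2) and the Tits group. -/

set_option autoImplicit false

namespace Cfsg.Agent.ChevalleyStructure.Tits.Main

open Cfsg.Agent.ChevalleyStructure.Tits.Pack Cfsg.Agent.ChevalleyStructure.Tits.Data
  Cfsg.Agent.ChevalleyStructure.Tits.Cert Cfsg.Agent.ChevalleyStructure.Tits.Rank2
  Cfsg.Agent.ChevalleyStructure.Tits.Sat Cfsg.Agent.ChevalleyStructure.Tits.Final
  Cfsg.Agent.ChevalleyStructure.Tits.Mat Cfsg.Agent.ChevalleyStructure.Tits.Order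
  Cfsg.Agent.ChevalleyStructure.Tits.Table

open scoped MatrixGroups

/-! ### the letters inside the group -/

/-- the letters as elements of the group `H0` -/
noncomputable def yH (i : ℕ) : H0 := if h : i < 10 then ⟨yG i, yG_mem h⟩ else 1

theorem coe_yH {i : ℕ} (h : i < 10) : ((yH i : H0) : GL I52 (ZMod 2)) = yG i := by
  unfold yH
  rw [dif_pos h]

theorem coe_list (l : List ℕ) (h : ∀ i ∈ l, i < 10) :
    (((l.map yH).prod : H0) : GL I52 (ZMod 2)) = (l.map yG).prod := by
  induction l with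
  | nil => simp
  | cons a l ih =>
    rw [List.map_cons, List.prod_cons, List.map_cons, List.prod_cons, Subgroup.coe_mul,
      ih (fun i hi => h i (List.mem_cons_of_mem a hi)), coe_yH (h a List.mem_cons_self)]

theorem rels_lt : rels.all (fun p => (p.1.all fun i => Nat.blt i 10) && p.2.all fun i => Nat.blt i 10) = true := by
  decide +kernel

theorem Sat_yH : Sat yH := by
  intro p hp
  have h := rels_lt
  rw [List.all_eq_true] at h
  have h2 := h p hp
  rw [Bool.and_eq_true, List.all_eq_true, List.all_eq_true] at h2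
  apply Subtype.ext
  rw [coe_list _ (fun i hi => by have := h2.1 i hi; rwa [Nat.blt_eq] at this),
    coe_list _ (fun i hi => by have := h2.2 i hi; rwa [Nat.blt_eq] at this)]
  exact Sat_yG p hp

theorem map_closure_yH (s : Set ℕ) (hs : ∀ i ∈ s, i < 10) :
    (Subgroup.closure (yH '' s)).map H0.subtype = Subgroup.closure (yG '' s) := by
  rw [MonoidHom.map_closure, Set.image_image]
  congr 1
  apply Set.image_congr
  intro i hi
  exact coe_yH (hs i hi)

theorem gen_yH : Subgroup.closure (yH '' {i | i < 10}) = ⊤ := by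
  apply Subgroup.map_injective H0.subtype_injective
  rw [map_closure_yH {i | i < 10} (fun i hi => hi), ← MonoidHom.range_eq_map, Subgroup.range_subtype]
  rfl

theorem map_V : (V yH 0).map H0.subtype = V yG 0 :=
  map_closure_yH _ (fun i hi => by have : i < 8 := hi.2; omega)

theorem card_V_yH : Nat.card (V yH 0) = 4096 := by
  rw [← card_V, ← map_V]
  exact Nat.card_congr ((V yH 0).equivMapOfInjective H0.subtype H0.subtype_injective).toEquiv

/-! ### the core -/

/-- the highest root vector -/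
def v0 : ℕ := 2251799813685248

theorem V_fix : ∀ g ∈ V yG 0, ((g : GL I52 (ZMod 2)) : Matrix I52 I52 (ZMod 2)) * toMat v0 = toMat v0 := by
  intro g hg
  induction hg using Subgroup.closure_induction with
  | mem x hx =>
    obtain ⟨i, hi, rfl⟩ := hx
    have hi8 : i < 8 := hi.2
    have h := fix_ok
    rw [List.all_eq_true] at h
    have h2 := Nat.eq_of_beq_eq_true (h i (List.mem_range.mpr hi8))
    rw [coe_yG (by omega), LM, ← toMat_mulP]
    exact congrArg toMat h2
  | one => rw [Units.val_one, Matrix.one_mul]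
  | mul a b _ _ ha hb => rw [Units.val_mul, Matrix.mul_assoc, hb, ha]
  | inv a _ ha =>
    conv_lhs => rw [← ha]
    rw [← Matrix.mul_assoc, ← Units.val_mul, inv_mul_cancel, Units.val_one, Matrix.one_mul]

/-- vectors of the basis are in the orbit of the highest root vector -/
theorem reach (k : ℕ) (hk : k < 52) : ∃ g ∈ H0,
    ((g : GL I52 (ZMod 2)) : Matrix I52 I52 (ZMod 2)) * toMat v0 = toMat (vs.getD k 0) := by
  induction k using Nat.strong_induction_on with
  | _ k ih =>
    rcases k with _ | k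
    · refine ⟨1, H0.one_mem, ?_⟩
      rw [Units.val_one, Matrix.one_mul]
      rfl
    · have h := spin_ok
      rw [List.all_eq_true] at h
      have h2 := h k (List.mem_range.mpr (by omega))
      rw [Bool.and_eq_true, Bool.and_eq_true, Nat.ble_eq, Nat.blt_eq] at h2
      obtain ⟨⟨h3, h4⟩, h5⟩ := h2
      obtain ⟨g, hg, hg2⟩ := ih (par.getD (k + 1) (0, 0)).2 (by omega) (by omega)
      refine ⟨yG (par.getD (k + 1) (0, 0)).1 * g, H0.mul_mem (yG_mem h4) hg, ?_⟩
      rw [Units.val_mul, Matrix.mul_assoc, hg2, coe_yG (by omega), LM, ← toMat_mulP,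
        Nat.eq_of_beq_eq_true h5]

theorem basis_col (i j : I52) : toMat basisP i j = toMat (vs.getD (ix j) 0) i (Sum.inl 0) := by
  have h := basis_cols
  rw [List.all_eq_true] at h
  have h2 := Nat.eq_of_beq_eq_true (h (ix j) (List.mem_range.mpr (ix_lt j)))
  rw [toMat_apply, toMat_apply, ← h2]
  have h3 : (4503599627370496 : ℕ) = 2 ^ 52 := by norm_num
  rw [h3, Nat.testBit_mod_two_pow, Nat.testBit_shiftRight, ix_inl]
  have h4 : 52 * ((0 : Fin 4) : ℕ) + ix i < 52 := by
    have := ix_lt i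
    simp only [Fin.val_zero, mul_zero, zero_add]
    exact this
  simp only [h4, decide_true, Bool.true_and]
  simp only [Fin.val_zero, mul_zero, zero_add]

theorem eq_one_of_fix (n : GL I52 (ZMod 2))
    (h : ∀ k < 52, (n : Matrix I52 I52 (ZMod 2)) * toMat (vs.getD k 0) = toMat (vs.getD k 0)) : n = 1 := by
  have h1 : (n : Matrix I52 I52 (ZMod 2)) * toMat basisP = toMat basisP := by
    ext i j
    rw [basis_col i j, ← h (ix j) (ix_lt j), Matrix.mul_apply, Matrix.mul_apply]
    apply Finset.sum_congr rfl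
    intro l _
    rw [basis_col l j]
  have h2 : toMat basisP * toMat basisInv = 1 := by
    rw [← toMat_mulP, Nat.eq_of_beq_eq_true basis_ok, toMat_oneP]
  apply Units.ext
  calc (n : Matrix I52 I52 (ZMod 2)) = n * (toMat basisP * toMat basisInv) := by rw [h2, Matrix.mul_one]
    _ = (n * toMat basisP) * toMat basisInv := by rw [Matrix.mul_assoc]
    _ = 1 := by rw [h1, h2]

theorem core (N : Subgroup H0) (hN : N.Normal) (hle : N ≤ V yH 0) : N = ⊥ := by
  rw [eq_bot_iff]
  intro n hn
  rw [Subgroup.mem_bot]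
  apply Subtype.ext
  show (n : GL I52 (ZMod 2)) = 1
  apply eq_one_of_fix
  intro k hk
  obtain ⟨g, hg, hg2⟩ := reach k hk
  have h1 : (⟨g, hg⟩⁻¹ : H0) * n * (⟨g, hg⟩⁻¹ : H0)⁻¹ ∈ N := hN.conj_mem n hn _
  have h2 : ((((⟨g, hg⟩⁻¹ : H0) * n * (⟨g, hg⟩⁻¹ : H0)⁻¹ : H0)) : GL I52 (ZMod 2)) ∈ V yG 0 := by
    rw [← map_V]
    exact ⟨_, hle h1, rfl⟩
  have h3 := V_fix _ h2
  have h4 : ((((⟨g, hg⟩⁻¹ : H0) * n * (⟨g, hg⟩⁻¹ : H0)⁻¹ : H0)) : GL I52 (ZMod 2)) = g⁻¹ * n * g := by
    rw [inv_inv]; rfl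
  rw [h4, Units.val_mul, Units.val_mul] at h3
  rw [← hg2]
  calc ((n : GL I52 (ZMod 2)) : Matrix I52 I52 (ZMod 2)) * ((g : Matrix I52 I52 (ZMod 2)) * toMat v0)
      = (g : Matrix I52 I52 (ZMod 2)) * (((g⁻¹ : GL I52 (ZMod 2)) : Matrix I52 I52 (ZMod 2)) *
          ((n : GL I52 (ZMod 2)) : Matrix I52 I52 (ZMod 2)) * (g : Matrix I52 I52 (ZMod 2)) * toMat v0) := by
        have h5 : (g : Matrix I52 I52 (ZMod 2)) * ((g⁻¹ : GL I52 (ZMod 2)) : Matrix I52 I52 (ZMod 2)) = 1 := by
          rw [← Units.val_mul, mul_inv_cancel, Units.val_one]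
        simp only [← Matrix.mul_assoc]
        rw [h5, Matrix.one_mul]
    _ = (g : Matrix I52 I52 (ZMod 2)) * toMat v0 := by rw [h3]

theorem yH_ne_one {i : ℕ} (hi : i < 8) : yH i ≠ 1 := by
  intro h
  have h1 := not_mem_V i hi
  have h2 : yG i = 1 := by
    rw [← coe_yH (by omega), h]; rfl
  apply h1
  split_ifs
  · simp [h2]
  · simp [h2]

theorem H0_result : (commutator H0).index = 2 ∧ IsSimpleGroup (commutator H0) ∧
    ¬ IsMulCommutative (commutator H0) ∧ Nat.card (commutator H0) = 2 ^ 11 * 3 ^ 3 * 5 ^ 2 * 13 :=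
  Final.main Sat_yH gen_yH card_H0 card_V_yH core (yH_ne_one (by norm_num)) (yH_ne_one (by norm_num))

/-! ### identification with the group of the definition -/

theorem x_zero (r : ℕ) : Cfsg.Lie.chevF4.x (ZMod 2) r 0 = 1 := by
  unfold Cfsg.Lie.ChevalleyDatum.x
  split_ifs with h
  · apply Matrix.ext
    intro row col
    have hchain : ∀ s u : ℕ, ((Cfsg.Lie.chevF4.chainCoeff r s u).map
        fun km => ((km.2 : ℤ) : ZMod 2) * (0 : ZMod 2) ^ km.1).sum = 0 := by
      intro s u
      apply List.sum_eq_zero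
      intro z hz
      rw [List.mem_map] at hz
      obtain ⟨km, hkm, rfl⟩ := hz
      unfold Cfsg.Lie.ChevalleyDatum.chainCoeff at hkm
      rw [List.mem_flatMap] at hkm
      obtain ⟨e, _, he⟩ := hkm
      rw [List.mem_map] at he
      obtain ⟨q, _, rfl⟩ := he
      simp
    rcases col with j | s
    · rcases row with i | u
      · show (if i = j then (1 : ZMod 2) else 0) = _
        rw [Matrix.one_apply]
        by_cases hij : i = j
        · subst hij; simp
        · have : (Sum.inl i : Fin 4 ⊕ Fin 48) ≠ Sum.inl j := fun h2 => hij (Sum.inl.inj h2)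
          rw [if_neg hij]
          exact (if_neg this).symm
      · show (if u = ⟨r, h⟩ then - (((Cfsg.Lie.chevF4.cartanSR.getD j.val #[]).getD r 0 : ℤ) : ZMod 2) * 0 else 0) = _
        rw [Matrix.one_apply]
        have : (Sum.inr u : Fin 4 ⊕ Fin 48) ≠ Sum.inl j := fun h2 => by cases h2
        rw [mul_zero, ite_self]
        exact (if_neg this).symm
    · rcases row with i | u
      · show (if s = ⟨r, h⟩ then (0 : ZMod 2) else if s.val = Cfsg.Lie.chevF4.negIdx.getD r 0 then
          (((Cfsg.Lie.chevF4.coroot.getD r #[]).getD i.val 0 : ℤ) : ZMod 2) * 0 else 0) = _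
        rw [Matrix.one_apply]
        have : (Sum.inl i : Fin 4 ⊕ Fin 48) ≠ Sum.inr s := fun h2 => by cases h2
        rw [mul_zero, ite_self, ite_self]
        exact (if_neg this).symm
      · show (if s = ⟨r, h⟩ then (if u = ⟨r, h⟩ then (1 : ZMod 2) else 0)
          else if s.val = Cfsg.Lie.chevF4.negIdx.getD r 0 then
            (if u = s then 1 else if u = ⟨r, h⟩ then -((0 : ZMod 2) ^ 2) else 0)
          else (if u = s then 1 else 0) +
            ((Cfsg.Lie.chevF4.chainCoeff r s.val u.val).map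
              fun km => ((km.2 : ℤ) : ZMod 2) * (0 : ZMod 2) ^ km.1).sum) = _
        rw [hchain, add_zero]
        have hgoal : (1 : Matrix (Fin 4 ⊕ Fin 48) (Fin 4 ⊕ Fin 48) (ZMod 2)) (Sum.inr u) (Sum.inr s) =
            if u = s then 1 else 0 := by
          rw [Matrix.one_apply]
          by_cases hus : u = s
          · subst hus; simp
          · have : (Sum.inr u : Fin 4 ⊕ Fin 48) ≠ Sum.inr s := fun h2 => hus (Sum.inr.inj h2)
            rw [if_neg hus]
            exact if_neg this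
        refine Eq.trans ?_ hgoal.symm
        by_cases hs : s = ⟨r, h⟩
        · subst hs; simp
        · rw [if_neg hs]
          simp
  · rfl

/-- matrix of the word of root elements -/
noncomputable def WM (w : List (ℕ × ZMod 2)) : Matrix I52 I52 (ZMod 2) := Cfsg.Lie.chevF4.wordMat (ZMod 2) w

/-- root element as a matrix over `I52` -/
noncomputable def XM (r : ℕ) (t : ZMod 2) : Matrix I52 I52 (ZMod 2) := Cfsg.Lie.chevF4.x (ZMod 2) r t

theorem WM_nil : WM [] = 1 := rfl

theorem WM_cons (r : ℕ) (t : ZMod 2) (w : List (ℕ × ZMod 2)) : WM ((r, t) :: w) = XM r t * WM w := by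
  unfold WM XM Cfsg.Lie.ChevalleyDatum.wordMat
  rw [List.map_cons, List.prod_cons]
  rfl

theorem XM_zero (r : ℕ) : XM r 0 = 1 := x_zero r

theorem XM_one {r k : ℕ} (h : (([(33, 12), (24, 13), (14, 14), (23, 15), (27, 16), (25, 17), (28, 18), (30, 19), (20, 20),
    (22, 21), (19, 22), (17, 23)] : List (ℕ × ℕ)).contains (r, k)) = true) (hr : r < 48) : XM r 1 = LM k := by
  have h1 := chk_all
  rw [List.all_eq_true] at h1
  exact x_eq_of_chk r k hr (h1 (r, k) (List.contains_iff_mem.mp h))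

theorem er' (p : List ℕ × List ℕ) (hp : ext.contains p = true) : (p.1.map LM).prod = (p.2.map LM).prod := by
  have h1 := ext_ok
  rw [List.all_eq_true] at h1
  exact eq_of_chk (h1 p (List.contains_iff_mem.mp hp))

theorem mA : WM [(33, 1), (24, 1)] = LM 0 := by
  have h := er' ([12, 13], [0]) (by decide +kernel)
  simp only [List.map_cons, List.map_nil, List.prod_cons, List.prod_nil, mul_one] at h
  rw [WM_cons, WM_cons, WM_nil, mul_one, XM_one (r := 33) (k := 12) (by decide +kernel) (by norm_num),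
    XM_one (r := 24) (k := 13) (by decide +kernel) (by norm_num), h]

theorem mA' : WM [(14, 1), (23, 1)] = LM 10 := by
  have h := er' ([14, 15], [10]) (by decide +kernel)
  simp only [List.map_cons, List.map_nil, List.prod_cons, List.prod_nil, mul_one] at h
  rw [WM_cons, WM_cons, WM_nil, mul_one, XM_one (r := 14) (k := 14) (by decide +kernel) (by norm_num),
    XM_one (r := 23) (k := 15) (by decide +kernel) (by norm_num), h]

theorem mC : WM [(27, 1), (25, 1), (28, 1), (30, 0)] = LM 7 := by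
  have h := er' ([16, 17, 18], [7]) (by decide +kernel)
  simp only [List.map_cons, List.map_nil, List.prod_cons, List.prod_nil, mul_one] at h
  rw [WM_cons, WM_cons, WM_cons, WM_cons, WM_nil, mul_one, XM_zero, mul_one,
    XM_one (r := 27) (k := 16) (by decide +kernel) (by norm_num),
    XM_one (r := 25) (k := 17) (by decide +kernel) (by norm_num),
    XM_one (r := 28) (k := 18) (by decide +kernel) (by norm_num), h]

theorem mD : WM [(27, 0), (25, 0), (28, 1), (30, 1)] = LM 7 * LM 7 := by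
  have h := er' ([18, 19], [7, 7]) (by decide +kernel)
  simp only [List.map_cons, List.map_nil, List.prod_cons, List.prod_nil, mul_one] at h
  rw [WM_cons, WM_cons, WM_cons, WM_cons, WM_nil, mul_one, XM_zero, XM_zero, one_mul, one_mul,
    XM_one (r := 28) (k := 18) (by decide +kernel) (by norm_num),
    XM_one (r := 30) (k := 19) (by decide +kernel) (by norm_num), h]

theorem mE : WM [(27, 1), (25, 1), (28, 0), (30, 1)] = LM 7 * (LM 7 * LM 7) := by
  have h := er' ([16, 17, 19], [7, 7, 7]) (by decide +kernel)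
  simp only [List.map_cons, List.map_nil, List.prod_cons, List.prod_nil, mul_one] at h
  rw [WM_cons, WM_cons, WM_cons, WM_cons, WM_nil, mul_one, XM_zero, one_mul,
    XM_one (r := 27) (k := 16) (by decide +kernel) (by norm_num),
    XM_one (r := 25) (k := 17) (by decide +kernel) (by norm_num),
    XM_one (r := 30) (k := 19) (by decide +kernel) (by norm_num), h]

theorem mC' : WM [(20, 1), (22, 1), (19, 1), (17, 0)] = LM 11 := by
  have h := er' ([20, 21, 22], [11]) (by decide +kernel)
  simp only [List.map_cons, List.map_nil, List.prod_cons, List.prod_nil, mul_one] at h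
  rw [WM_cons, WM_cons, WM_cons, WM_cons, WM_nil, mul_one, XM_zero, mul_one,
    XM_one (r := 20) (k := 20) (by decide +kernel) (by norm_num),
    XM_one (r := 22) (k := 21) (by decide +kernel) (by norm_num),
    XM_one (r := 19) (k := 22) (by decide +kernel) (by norm_num), h]

theorem mD' : WM [(20, 0), (22, 0), (19, 1), (17, 1)] = LM 11 * LM 11 := by
  have h := er' ([22, 23], [11, 11]) (by decide +kernel)
  simp only [List.map_cons, List.map_nil, List.prod_cons, List.prod_nil, mul_one] at h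
  rw [WM_cons, WM_cons, WM_cons, WM_cons, WM_nil, mul_one, XM_zero, XM_zero, one_mul, one_mul,
    XM_one (r := 19) (k := 22) (by decide +kernel) (by norm_num),
    XM_one (r := 17) (k := 23) (by decide +kernel) (by norm_num), h]

theorem mE' : WM [(20, 1), (22, 1), (19, 0), (17, 1)] = LM 11 * (LM 11 * LM 11) := by
  have h := er' ([20, 21, 23], [11, 11, 11]) (by decide +kernel)
  simp only [List.map_cons, List.map_nil, List.prod_cons, List.prod_nil, mul_one] at h
  rw [WM_cons, WM_cons, WM_cons, WM_cons, WM_nil, mul_one, XM_zero, one_mul,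
    XM_one (r := 20) (k := 20) (by decide +kernel) (by norm_num),
    XM_one (r := 22) (k := 21) (by decide +kernel) (by norm_num),
    XM_one (r := 17) (k := 23) (by decide +kernel) (by norm_num), h]

/-- the list of generating words over `ZMod 2` -/
def genWords : List (List (ℕ × ZMod 2)) :=
  [[(33, 0), (24, 0)], [(33, 1), (24, 1)], [(14, 0), (23, 0)], [(14, 1), (23, 1)],
   [(27, 0), (25, 0), (28, 0), (30, 0)], [(27, 1), (25, 1), (28, 1), (30, 0)],
   [(27, 0), (25, 0), (28, 1), (30, 1)], [(27, 1), (25, 1), (28, 0), (30, 1)],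
   [(20, 0), (22, 0), (19, 0), (17, 0)], [(20, 1), (22, 1), (19, 1), (17, 0)],
   [(20, 0), (22, 0), (19, 1), (17, 1)], [(20, 1), (22, 1), (19, 0), (17, 1)]]

theorem mem_words (w : List (ℕ × ZMod 2)) : w ∈ Cfsg.Lie.f4Words (ZMod 2) 1 ↔ w ∈ genWords := by
  have ht : ∀ t : ZMod 2, t = 0 ∨ t = 1 := by decide
  unfold Cfsg.Lie.f4Words
  constructor
  · rintro (⟨t, h⟩ | ⟨t, u, h⟩)
    · rcases ht t with rfl | rfl <;> rcases h with rfl | rfl <;> decide
    · rcases ht t with rfl | rfl <;> rcases ht u with rfl | rfl <;> rcases h with rfl | rfl <;> decide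
  · intro h
    unfold genWords at h
    simp only [List.mem_cons, List.not_mem_nil, or_false] at h
    rcases h with rfl | rfl | rfl | rfl | rfl | rfl | rfl | rfl | rfl | rfl | rfl | rfl
    · exact Or.inl ⟨0, Or.inl (by decide)⟩
    · exact Or.inl ⟨1, Or.inl (by decide)⟩
    · exact Or.inl ⟨0, Or.inr (by decide)⟩
    · exact Or.inl ⟨1, Or.inr (by decide)⟩
    · exact Or.inr ⟨0, 0, Or.inl (by decide)⟩
    · exact Or.inr ⟨1, 0, Or.inl (by decide)⟩
    · exact Or.inr ⟨0, 1, Or.inl (by decide)⟩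
    · exact Or.inr ⟨1, 1, Or.inl (by decide)⟩
    · exact Or.inr ⟨0, 0, Or.inr (by decide)⟩
    · exact Or.inr ⟨1, 0, Or.inr (by decide)⟩
    · exact Or.inr ⟨0, 1, Or.inr (by decide)⟩
    · exact Or.inr ⟨1, 1, Or.inr (by decide)⟩

/-- the group of the definition -/
noncomputable def T0 : Subgroup (GL I52 (ZMod 2)) := Cfsg.Lie.twistedF4 (ZMod 2) 1

theorem T0_eq_closure : T0 = Subgroup.closure {g : GL I52 (ZMod 2) | ∃ w ∈ genWords,
    (g : Matrix I52 I52 (ZMod 2)) = WM w} := by
  unfold T0 Cfsg.Lie.twistedF4 Cfsg.Lie.ChevalleyDatum.genSubgroup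
  have : {g : GL I52 (ZMod 2) | ∃ w ∈ Cfsg.Lie.f4Words (ZMod 2) 1, (g : Matrix I52 I52 (ZMod 2)) = WM w} =
      {g : GL I52 (ZMod 2) | ∃ w ∈ genWords, (g : Matrix I52 I52 (ZMod 2)) = WM w} := by
    ext g
    constructor
    · rintro ⟨w, hw, h⟩; exact ⟨w, (mem_words w).mp hw, h⟩
    · rintro ⟨w, hw, h⟩; exact ⟨w, (mem_words w).mpr hw, h⟩
  rw [← this]
  rfl

theorem gen_mem_T0 {w : List (ℕ × ZMod 2)} (hw : w ∈ genWords) {g : GL I52 (ZMod 2)}
    (h : (g : Matrix I52 I52 (ZMod 2)) = WM w) : g ∈ T0 := by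
  rw [T0_eq_closure]
  exact Subgroup.subset_closure ⟨w, hw, h⟩

theorem er2 (p : List ℕ × List ℕ) (hp : (ext.take 6 ++ ext.drop 14).contains p = true) :
    (p.1.map yG).prod = (p.2.map yG).prod := er p hp

theorem T0_eq_H0 : T0 = H0 := by
  have e8 := er2 ([8], [0, 10, 0]) (by decide +kernel)
  have e9 := er2 ([9], [7, 7, 7, 11, 7, 7]) (by decide +kernel)
  have e10 := er2 ([10], [8, 0, 8]) (by decide +kernel)
  have e11 := er2 ([11], [9, 7, 9]) (by decide +kernel)
  simp only [List.map_cons, List.map_nil, List.prod_cons, List.prod_nil, mul_one] at e8 e9 e10 e11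
  apply le_antisymm
  · have m0 : yG 0 ∈ H0 := yG_mem (by norm_num)
    have m7 : yG 7 ∈ H0 := yG_mem (by norm_num)
    have m8 : yG 8 ∈ H0 := yG_mem (by norm_num)
    have m9 : yG 9 ∈ H0 := yG_mem (by norm_num)
    have m10 : yG 10 ∈ H0 := by rw [e10]; exact H0.mul_mem m8 (H0.mul_mem m0 m8)
    have m11 : yG 11 ∈ H0 := by rw [e11]; exact H0.mul_mem m9 (H0.mul_mem m7 m9)
    have c0 : ((yG 0 : GL I52 (ZMod 2)) : Matrix I52 I52 (ZMod 2)) = LM 0 := coe_yG (by norm_num)
    have c7 : ((yG 7 : GL I52 (ZMod 2)) : Matrix I52 I52 (ZMod 2)) = LM 7 := coe_yG (by norm_num)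
    have c10 : ((yG 10 : GL I52 (ZMod 2)) : Matrix I52 I52 (ZMod 2)) = LM 10 := coe_yG (by norm_num)
    have c11 : ((yG 11 : GL I52 (ZMod 2)) : Matrix I52 I52 (ZMod 2)) = LM 11 := coe_yG (by norm_num)
    have fin : ∀ (g k : GL I52 (ZMod 2)), (g : Matrix I52 I52 (ZMod 2)) = (k : Matrix I52 I52 (ZMod 2)) →
        k ∈ H0 → g ∈ H0 := by
      intro g k h hk
      rw [Units.ext h]; exact hk
    rw [T0_eq_closure, Subgroup.closure_le]
    rintro g ⟨w, hw, hg⟩
    unfold genWords at hw
    simp only [List.mem_cons, List.not_mem_nil, or_false] at hw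
    rcases hw with rfl | rfl | rfl | rfl | rfl | rfl | rfl | rfl | rfl | rfl | rfl | rfl
    · refine fin g 1 ?_ H0.one_mem
      rw [hg, WM_cons, WM_cons, WM_nil, XM_zero, XM_zero, mul_one, mul_one, Units.val_one]
    · refine fin g (yG 0) ?_ m0
      rw [hg, mA, c0]
    · refine fin g 1 ?_ H0.one_mem
      rw [hg, WM_cons, WM_cons, WM_nil, XM_zero, XM_zero, mul_one, mul_one, Units.val_one]
    · refine fin g (yG 10) ?_ m10
      rw [hg, mA', c10]
    · refine fin g 1 ?_ H0.one_mem
      rw [hg, WM_cons, WM_cons, WM_cons, WM_cons, WM_nil, XM_zero, XM_zero, XM_zero, XM_zero, mul_one, mul_one,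
        mul_one, mul_one, Units.val_one]
    · refine fin g (yG 7) ?_ m7
      rw [hg, mC, c7]
    · refine fin g (yG 7 * yG 7) ?_ (H0.mul_mem m7 m7)
      rw [hg, mD, Units.val_mul, c7]
    · refine fin g (yG 7 * (yG 7 * yG 7)) ?_ (H0.mul_mem m7 (H0.mul_mem m7 m7))
      rw [hg, mE, Units.val_mul, Units.val_mul, c7]
    · refine fin g 1 ?_ H0.one_mem
      rw [hg, WM_cons, WM_cons, WM_cons, WM_cons, WM_nil, XM_zero, XM_zero, XM_zero, XM_zero, mul_one, mul_one,
        mul_one, mul_one, Units.val_one]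
    · refine fin g (yG 11) ?_ m11
      rw [hg, mC', c11]
    · refine fin g (yG 11 * yG 11) ?_ (H0.mul_mem m11 m11)
      rw [hg, mD', Units.val_mul, c11]
    · refine fin g (yG 11 * (yG 11 * yG 11)) ?_ (H0.mul_mem m11 (H0.mul_mem m11 m11))
      rw [hg, mE', Units.val_mul, Units.val_mul, c11]
  · have m0 : yG 0 ∈ T0 := gen_mem_T0 (w := [(33, 1), (24, 1)]) (by decide) (by rw [coe_yG (by norm_num), mA])
    have m7 : yG 7 ∈ T0 := gen_mem_T0 (w := [(27, 1), (25, 1), (28, 1), (30, 0)]) (by decide)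
      (by rw [coe_yG (by norm_num), mC])
    have m10 : yG 10 ∈ T0 := gen_mem_T0 (w := [(14, 1), (23, 1)]) (by decide) (by rw [coe_yG (by norm_num), mA'])
    have m11 : yG 11 ∈ T0 := gen_mem_T0 (w := [(20, 1), (22, 1), (19, 1), (17, 0)]) (by decide)
      (by rw [coe_yG (by norm_num), mC'])
    have m8 : yG 8 ∈ T0 := by rw [e8]; exact T0.mul_mem m0 (T0.mul_mem m10 m0)
    have m9 : yG 9 ∈ T0 := by
      rw [e9]
      exact T0.mul_mem m7 (T0.mul_mem m7 (T0.mul_mem m7 (T0.mul_mem m11 (T0.mul_mem m7 m7))))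
    exact gen4 Sat_yG T0 m0 m7 m8 m9

theorem result_aux (K : Subgroup (GL I52 (ZMod 2))) (hK : K = H0) : (commutator K).index = 2 ∧
    IsSimpleGroup (commutator K) ∧ ¬ IsMulCommutative (commutator K) ∧
      Nat.card (commutator K) = 2 ^ 11 * 3 ^ 3 * 5 ^ 2 * 13 := by
  subst hK
  exact H0_result

end Cfsg.Agent.ChevalleyStructure.Tits.Main
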