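import Cfsg.Agent.ChevalleyStructure.Tits.Cert
import Cfsg.Agent.ChevalleyStructure.Tits.Final

/-! The matrix group generated by the letters: order 35942400. -/

set_option autoImplicit false

namespace Cfsg.Agent.ChevalleyStructure.Tits.Mat

open Cfsg.Agent.ChevalleyStructure.Tits.Pack Cfsg.Agent.ChevalleyStructure.Tits.Data
  Cfsg.Agent.ChevalleyStructure.Tits.Cert Cfsg.Agent.ChevalleyStructure.Tits.Rank2
  Cfsg.Agent.ChevalleyStructure.Tits.Sat Cfsg.Agent.ChevalleyStructure.Tits.Final

open scoped MatrixGroups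

/-- coordinates -/
abbrev I52 : Type := Fin 4 ⊕ Fin 48

/-- matrix of a letter -/
def LM (i : ℕ) : Matrix I52 I52 (ZMod 2) := toMat (LP i)

theorem toMat_evalV (w : List ℕ) (v : ℕ) : toMat (evalV w v) = (w.map LM).prod * toMat v := by
  induction w with
  | nil => simp [evalV]
  | cons a w ih =>
    have h : evalV (a :: w) v = mulP (LP a) (evalV w v) := rfl
    rw [h, toMat_mulP, ih, List.map_cons, List.prod_cons, LM, Matrix.mul_assoc]

theorem toMat_evalW (w : List ℕ) : toMat (evalW w) = (w.map LM).prod := by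
  have h : evalW w = evalV w oneP := rfl
  rw [h, toMat_evalV, toMat_oneP, Matrix.mul_one]

theorem eq_of_chk {p : List ℕ × List ℕ} (h : chk p = true) : (p.1.map LM).prod = (p.2.map LM).prod := by
  rw [← toMat_evalW, ← toMat_evalW]
  rw [Nat.eq_of_beq_eq_true h]

theorem LM_pow4 (i : ℕ) (hi : i < 12) : LM i ^ 4 = 1 := by
  have h := pow4_ok
  rw [List.all_eq_true] at h
  have h2 := eq_of_chk (h i (List.mem_range.mpr hi))
  simp only [List.map_cons, List.map_nil, List.prod_cons, List.prod_nil, mul_one] at h2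
  rw [pow_succ, pow_succ, pow_succ, pow_one]
  simp only [mul_assoc] at h2 ⊢
  exact h2

/-- the letters as units -/
noncomputable def yG (i : ℕ) : GL I52 (ZMod 2) :=
  if h : i < 12 then Units.ofPowEqOne (LM i) 4 (LM_pow4 i h) (by norm_num) else 1

theorem coe_yG {i : ℕ} (h : i < 12) : ((yG i : GL I52 (ZMod 2)) : Matrix I52 I52 (ZMod 2)) = LM i := by
  unfold yG
  rw [dif_pos h]
  rfl

theorem coe_word (w : List ℕ) (h : ∀ i ∈ w, i < 12) :
    (((w.map yG).prod : GL I52 (ZMod 2)) : Matrix I52 I52 (ZMod 2)) = (w.map LM).prod := by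
  induction w with
  | nil => simp
  | cons a w ih =>
    rw [List.map_cons, List.prod_cons, List.map_cons, List.prod_cons, Units.val_mul,
      ih (fun i hi => h i (List.mem_cons_of_mem a hi)), coe_yG (h a List.mem_cons_self)]

theorem rel_of_chk {p : List ℕ × List ℕ} (h : chk p = true) (h1 : ∀ i ∈ p.1, i < 12) (h2 : ∀ i ∈ p.2, i < 12) :
    (p.1.map yG).prod = (p.2.map yG).prod := by
  apply Units.ext
  rw [coe_word _ h1, coe_word _ h2]
  exact eq_of_chk h

theorem Sat_yG : Sat yG := by
  intro p hp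
  have h1 := rels_ok
  rw [List.all_eq_true] at h1
  have h2 := lt_ok
  rw [List.all_eq_true] at h2
  have h3 := h2 p (by simp [hp])
  rw [Bool.and_eq_true, List.all_eq_true, List.all_eq_true] at h3
  refine rel_of_chk (h1 p hp) (fun i hi => ?_) (fun i hi => ?_)
  · have := h3.1 i hi; rwa [Nat.blt_eq] at this
  · have := h3.2 i hi; rwa [Nat.blt_eq] at this

/-- relations from the second list -/
theorem ext_rel {p : List ℕ × List ℕ} (hp : p ∈ ext.take 6 ++ ext.drop 14) :
    (p.1.map yG).prod = (p.2.map yG).prod := by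
  have h1 := ext_ok
  rw [List.all_eq_true] at h1
  have hp2 : p ∈ ext := by
    rw [List.mem_append] at hp
    rcases hp with hp | hp
    · exact List.mem_of_mem_take hp
    · exact List.mem_of_mem_drop hp
  have h2 := lt_ok
  rw [List.all_eq_true] at h2
  have h3 := h2 p (by rw [List.append_assoc]; exact List.mem_append_right _ hp)
  rw [Bool.and_eq_true, List.all_eq_true, List.all_eq_true] at h3
  refine rel_of_chk (h1 p hp2) (fun i hi => ?_) (fun i hi => ?_)
  · have := h3.1 i hi; rwa [Nat.blt_eq] at this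
  · have := h3.2 i hi; rwa [Nat.blt_eq] at this

/-! ### non-membership certificates -/

theorem toMat_inj_vec {a b : ℕ} (ha : a < 2 ^ 52) (hb : b < 2 ^ 52) (h : toMat a = toMat b) : a = b := by
  apply Nat.eq_of_testBit_eq
  intro i
  by_cases hi : i < 52
  · have key : ∀ r : I52, ix r = i → a.testBit i = b.testBit i := by
      intro r hr
      have h1 := congrFun (congrFun h r) (Sum.inl 0)
      rw [toMat_apply, toMat_apply, ix_inl, hr] at h1
      simp only [Fin.val_zero, mul_zero, zero_add] at h1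
      revert h1
      cases a.testBit i <;> cases b.testBit i <;> simp [bz]
    by_cases h4 : i < 4
    · exact key (Sum.inl ⟨i, h4⟩) rfl
    · refine key (Sum.inr ⟨i - 4, by omega⟩) ?_
      rw [ix_inr]
      show 4 + (i - 4) = i
      omega
  · have h52 : 2 ^ 52 ≤ 2 ^ i := Nat.pow_le_pow_right (by norm_num) (by omega)
    rw [Nat.testBit_lt_two_pow (lt_of_lt_of_le ha h52), Nat.testBit_lt_two_pow (lt_of_lt_of_le hb h52)]

theorem not_mem_of_chk {ws : List (List ℕ)} {O w : List ℕ} (h : chkC (ws, O, w) = true)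
    (hws : ∀ v ∈ ws, ∀ i ∈ v, i < 12) (hw : ∀ i ∈ w, i < 12) :
    (w.map yG).prod ∉ Subgroup.closure {g | ∃ v ∈ ws, g = (v.map yG).prod} := by
  unfold chkC at h
  rw [Bool.and_eq_true, Bool.and_eq_true] at h
  obtain ⟨⟨h1, h2⟩, h3⟩ := h
  simp only at h1 h2 h3
  rw [List.all_eq_true] at h1 h2
  rw [List.any_eq_true] at h3
  obtain ⟨v, hv, h3⟩ := h3
  rw [Bool.and_eq_true, Nat.blt_eq, List.all_eq_true] at h3
  obtain ⟨h3, h4⟩ := h3
  intro hmem
  -- the invariant set
  set S : Set (Matrix I52 I52 (ZMod 2)) := {m | ∃ u ∈ O, m = toMat u} with hS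
  have hSfin : S.Finite := by
    have : S = (fun u => toMat u) '' {u | u ∈ O} := by
      ext m
      constructor
      · rintro ⟨u, hu, rfl⟩; exact ⟨u, hu, rfl⟩
      · rintro ⟨u, hu, rfl⟩; exact ⟨u, hu, rfl⟩
    rw [this]
    exact (List.finite_toSet O).image _
  have key : ∀ g ∈ Subgroup.closure {g | ∃ v ∈ ws, g = (v.map yG).prod}, ∀ m ∈ S,
      ((g : GL I52 (ZMod 2)) : Matrix I52 I52 (ZMod 2)) * m ∈ S := by
    intro g hg
    induction hg using Subgroup.closure_induction with
    | mem x hx =>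
      obtain ⟨a, ha, rfl⟩ := hx
      rintro _ ⟨u, hu, rfl⟩
      have h5 := h1 a ha
      rw [List.all_eq_true] at h5
      have h6 := h5 u hu
      rw [List.any_eq_true] at h6
      obtain ⟨u', hu', h7⟩ := h6
      refine ⟨u', hu', ?_⟩
      rw [coe_word a (hws a ha), ← toMat_evalV, Nat.eq_of_beq_eq_true h7]
    | one => intro m hm; rw [Units.val_one, Matrix.one_mul]; exact hm
    | mul a b _ _ ha hb =>
      intro m hm
      rw [Units.val_mul, Matrix.mul_assoc]
      exact ha _ (hb _ hm)
    | inv a _ ha =>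
      intro m hm
      have hinj : Function.Injective (fun m : Matrix I52 I52 (ZMod 2) => (a : Matrix I52 I52 (ZMod 2)) * m) := by
        intro m1 m2 h12
        have h8 : ((a⁻¹ : GL I52 (ZMod 2)) : Matrix I52 I52 (ZMod 2)) * ((a : Matrix I52 I52 (ZMod 2)) * m1) =
            ((a⁻¹ : GL I52 (ZMod 2)) : Matrix I52 I52 (ZMod 2)) * ((a : Matrix I52 I52 (ZMod 2)) * m2) := by
          simp only at h12; rw [h12]
        rw [← Matrix.mul_assoc, ← Matrix.mul_assoc, ← Units.val_mul, inv_mul_cancel, Units.val_one,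
          Matrix.one_mul, Matrix.one_mul] at h8
        exact h8
      have himg : (fun m : Matrix I52 I52 (ZMod 2) => (a : Matrix I52 I52 (ZMod 2)) * m) '' S = S := by
        apply Set.eq_of_subset_of_ncard_le
        · rintro _ ⟨m, hm, rfl⟩; exact ha m hm
        · rw [Set.ncard_image_of_injective S hinj]
        · exact hSfin
      rw [← himg] at hm
      obtain ⟨m', hm', rfl⟩ := hm
      simp only
      rw [← Matrix.mul_assoc, ← Units.val_mul, inv_mul_cancel, Units.val_one, Matrix.one_mul]
      exact hm'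
  obtain ⟨u, hu, h5⟩ := key _ hmem (toMat v) ⟨v, hv, rfl⟩
  rw [coe_word w hw, ← toMat_evalV] at h5
  have h6 := h2 u hu
  rw [Nat.blt_eq] at h6
  have h7 := toMat_inj_vec (by norm_num; exact h3) (by norm_num; exact h6) h5
  have h8 := h4 u hu
  rw [h7] at h8
  simp at h8

theorem certs_lt : certs.all (fun c => (c.1.all fun v => v.all fun i => Nat.blt i 12) &&
    c.2.2.all fun i => Nat.blt i 12) = true := by decide +kernel

theorem not_mem_cert {c : List (List ℕ) × List ℕ × List ℕ} (hc : c ∈ certs) :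
    (c.2.2.map yG).prod ∉ Subgroup.closure {g | ∃ v ∈ c.1, g = (v.map yG).prod} := by
  have h1 := certs_ok
  rw [List.all_eq_true] at h1
  have h2 := certs_lt
  rw [List.all_eq_true] at h2
  have h3 := h2 c hc
  rw [Bool.and_eq_true, List.all_eq_true, List.all_eq_true] at h3
  refine not_mem_of_chk (h1 c hc) (fun v hv i hi => ?_) (fun i hi => ?_)
  · have h4 := h3.1 v hv
    rw [List.all_eq_true] at h4
    have h5 := h4 i hi
    rwa [Nat.blt_eq] at h5
  · have h5 := h3.2 i hi
    rwa [Nat.blt_eq] at h5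

end Cfsg.Agent.ChevalleyStructure.Tits.Mat
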