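import Cfsg.Agent.ChevalleyStructure.Tits.Mat

/-! The order of the matrix group generated by the letters. -/

set_option autoImplicit false

namespace Cfsg.Agent.ChevalleyStructure.Tits.Order

open Cfsg.Agent.ChevalleyStructure.Tits.Pack Cfsg.Agent.ChevalleyStructure.Tits.Data
  Cfsg.Agent.ChevalleyStructure.Tits.Cert Cfsg.Agent.ChevalleyStructure.Tits.Rank2
  Cfsg.Agent.ChevalleyStructure.Tits.Sat Cfsg.Agent.ChevalleyStructure.Tits.Final
  Cfsg.Agent.ChevalleyStructure.Tits.Mat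

open scoped MatrixGroups

section Abs

variable {Γ : Type*} [Group Γ]

theorem card_lower [Finite Γ] {V K : Subgroup Γ} (hKV : K ≤ V) {g : Γ} (hg : g ∈ V) (m : ℕ)
    (h : ∀ i, 0 < i → i < m → g ^ i ∉ K) : m * Nat.card K ≤ Nat.card V := by
  let f : Fin m × K → V := fun p => ⟨g ^ (p.1 : ℕ) * p.2, V.mul_mem (V.pow_mem hg _) (hKV p.2.2)⟩
  have key : ∀ i j : ℕ, i ≤ j → j < m → ∀ k l : Γ, k ∈ K → l ∈ K → g ^ i * k = g ^ j * l → i = j := by
    intro i j hij hj k l hk hl he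
    by_contra hne
    have h1 : g ^ (j - i) ∈ K := by
      have h2 : g ^ j = g ^ i * g ^ (j - i) := by rw [← pow_add]; congr 1; omega
      rw [h2, mul_assoc] at he
      have h3 : k = g ^ (j - i) * l := mul_left_cancel he
      have h4 : g ^ (j - i) = k * l⁻¹ := by rw [h3]; group
      rw [h4]
      exact K.mul_mem hk (K.inv_mem hl)
    exact h (j - i) (by omega) (by omega) h1
  have hf : Function.Injective f := by
    rintro ⟨i, k⟩ ⟨j, l⟩ he
    have he2 : g ^ (i : ℕ) * (k : Γ) = g ^ (j : ℕ) * (l : Γ) := congrArg Subtype.val he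
    have hij : (i : ℕ) = (j : ℕ) := by
      rcases le_total (i : ℕ) (j : ℕ) with h1 | h1
      · exact key _ _ h1 j.2 _ _ k.2 l.2 he2
      · exact (key _ _ h1 i.2 _ _ l.2 k.2 he2.symm).symm
    rw [hij] at he2
    have hkl : (k : Γ) = l := mul_left_cancel he2
    rw [Prod.mk.injEq]
    exact ⟨Fin.ext hij, Subtype.ext hkl⟩
  have h1 := Nat.card_le_card_of_injective f hf
  rwa [Nat.card_prod, Nat.card_eq_fintype_card, Fintype.card_fin] at h1

theorem comm_zpowers {a b : Γ} (h : a * b = b * a) : ∀ k ∈ Subgroup.zpowers b, a * k = k * a := by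
  rintro _ ⟨n, rfl⟩
  have h1 : Commute a b := h
  exact (h1.zpow_right n).eq

theorem conj_zpowers_of_comm {a b : Γ} (h : a * b = b * a) : ∀ k ∈ Subgroup.zpowers b,
    a * k * a⁻¹ ∈ Subgroup.zpowers b := by
  intro k hk
  rw [comm_zpowers h k hk, mul_inv_cancel_right]
  exact hk

theorem div_step [Finite Γ] {K : Subgroup Γ} {g : Γ} {p : ℕ} (hp : p.Prime)
    (hnorm : ∀ k ∈ K, g * k * g⁻¹ ∈ K) (hgp : g ^ p ∈ K) (hg : g ∉ K) {n : ℕ} (hn : n ∣ Nat.card K) :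
    p * n ∣ Nat.card (Subgroup.zpowers g ⊔ K : Subgroup Γ) := by
  have h1 : Subgroup.zpowers g ≤ Subgroup.normalizer (K : Set Γ) := by
    rw [Subgroup.le_normalizer_iff]
    exact conj_zpowers (orderOf_pos g) (pow_orderOf_eq_one g) hnorm
  set L : Subgroup Γ := Subgroup.zpowers g ⊔ K with hL
  have hKL : K ≤ L := le_sup_right
  have hnormal : (K.subgroupOf L).Normal := Subgroup.normal_subgroupOf_sup_of_le_normalizer h1
  have hgL : g ∈ L := (le_sup_left : Subgroup.zpowers g ≤ L) (Subgroup.mem_zpowers g)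
  let q : L ⧸ K.subgroupOf L := QuotientGroup.mk ⟨g, hgL⟩
  have hq : q ≠ 1 := by
    intro h
    have h2 := (QuotientGroup.eq_one_iff _).mp h
    exact hg h2
  have hqp : q ^ p = 1 := by
    have : q ^ p = QuotientGroup.mk ((⟨g, hgL⟩ : L) ^ p) := rfl
    rw [this, QuotientGroup.eq_one_iff]
    exact hgp
  have : Fact p.Prime := ⟨hp⟩
  have hord : orderOf q = p := orderOf_eq_prime hqp hq
  have h2 : p ∣ Nat.card (L ⧸ K.subgroupOf L) := by rw [← hord]; exact orderOf_dvd_natCard q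
  have h3 : Nat.card (K.subgroupOf L) = Nat.card K :=
    Nat.card_congr (Subgroup.subgroupOfEquivOfLe hKL).toEquiv
  rw [Subgroup.card_eq_card_quotient_mul_card_subgroup (K.subgroupOf L), h3]
  exact Nat.mul_dvd_mul h2 hn

end Abs

/-! ### the group -/

/-- the group generated by the letters -/
noncomputable def H0 : Subgroup (GL I52 (ZMod 2)) := Subgroup.closure (yG '' {i | i < 10})

theorem yG_mem {i : ℕ} (hi : i < 10) : yG i ∈ H0 := Subgroup.subset_closure ⟨i, hi, rfl⟩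

theorem word_mem (l : List ℕ) (h : ∀ i ∈ l, i < 10) : (l.map yG).prod ∈ H0 :=
  list_prod_mem yG l (fun i hi => yG_mem (h i hi))

instance finGL : Finite (GL I52 (ZMod 2)) := inferInstance

theorem cert_lookup : ∀ k < 8, (certs.any fun c => c.1 == (List.range' (k + 1) (7 - k)).map (fun j => [j]) &&
    c.2.2 == (if k % 2 = 0 then [k] else [k, k])) = true := by decide +kernel

theorem not_mem_V (k : ℕ) (hk : k < 8) :
    ((if k % 2 = 0 then [k] else [k, k]).map yG).prod ∉ V yG (k + 1) := by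
  have h := cert_lookup k hk
  rw [List.any_eq_true] at h
  obtain ⟨c, hc, h⟩ := h
  rw [Bool.and_eq_true, beq_iff_eq, beq_iff_eq] at h
  have h1 := not_mem_cert hc
  rw [h.2] at h1
  intro h2
  apply h1
  refine (Subgroup.closure_mono ?_ : V yG (k + 1) ≤ _) h2
  rintro _ ⟨j, ⟨hj1, hj2⟩, rfl⟩
  refine ⟨[j], ?_, by simp⟩
  rw [h.1, List.mem_map]
  refine ⟨j, ?_, rfl⟩
  rw [List.mem_range']
  exact ⟨j - (k + 1), by omega, by omega⟩

theorem V_step (k : ℕ) (hk : k < 8) : od k * Nat.card (V yG (k + 1)) ≤ Nat.card (V yG k) := by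
  apply card_lower (V_mono yG (Nat.le_succ k)) (mem_V yG le_rfl hk)
  intro i hi0 hi hmem
  have h := not_mem_V k hk
  by_cases h2 : k % 2 = 0
  · rw [if_pos h2] at h
    have hod : od k = 2 := by unfold od; rw [if_pos h2]
    have hi1 : i = 1 := by omega
    subst hi1
    apply h
    simpa using hmem
  · rw [if_neg h2] at h
    have hod : od k = 4 := by unfold od; rw [if_neg h2]
    apply h
    have h3 : (List.map yG [k, k]).prod = yG k ^ 2 := by simp [pow_two]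
    rw [h3]
    have h4 : yG k ^ 4 = 1 := by
      have h9 := pow_od Sat_yG hk
      rwa [hod] at h9
    rw [hod] at hi
    have h5 : i = 1 ∨ i = 2 ∨ i = 3 := by omega
    rcases h5 with rfl | rfl | rfl
    · have := (V yG (k + 1)).pow_mem hmem 2
      rwa [pow_one] at this
    · exact hmem
    · have := (V yG (k + 1)).pow_mem hmem 2
      rw [← pow_mul] at this
      have h6 : yG k ^ (3 * 2) = yG k ^ 2 := by
        rw [show 3 * 2 = 4 + 2 from rfl, pow_add, h4, one_mul]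
      rwa [h6] at this

theorem card_V : Nat.card (V yG 0) = 4096 := by
  apply le_antisymm
  · exact (U_card Sat_yG).2
  · have h0 := V_step 0 (by norm_num)
    have h1 := V_step 1 (by norm_num)
    have h2 := V_step 2 (by norm_num)
    have h3 := V_step 3 (by norm_num)
    have h4 := V_step 4 (by norm_num)
    have h5 := V_step 5 (by norm_num)
    have h6 := V_step 6 (by norm_num)
    have h7 := V_step 7 (by norm_num)
    have h8 : Nat.card (V yG (7 + 1)) = 1 := by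
      rw [show 7 + 1 = 8 from rfl, V_eight]; exact Subgroup.card_bot
    have o0 : od 0 = 2 := rfl
    have o1 : od 1 = 4 := rfl
    have o2 : od 2 = 2 := rfl
    have o3 : od 3 = 4 := rfl
    have o4 : od 4 = 2 := rfl
    have o5 : od 5 = 4 := rfl
    have o6 : od 6 = 2 := rfl
    have o7 : od 7 = 4 := rfl
    rw [o0] at h0
    rw [o1] at h1
    rw [o2] at h2
    rw [o3] at h3
    rw [o4] at h4
    rw [o5] at h5
    rw [o6] at h6
    rw [o7] at h7
    simp only [Nat.reduceAdd] at h0 h1 h2 h3 h4 h5 h6 h7 h8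
    omega

theorem er (p : List ℕ × List ℕ) (hp : (ext.take 6 ++ ext.drop 14).contains p = true) :
    (p.1.map yG).prod = (p.2.map yG).prod :=
  ext_rel (List.contains_iff_mem.mp hp)

/-- value of a word -/
noncomputable def W (l : List ℕ) : GL I52 (ZMod 2) := (l.map yG).prod

theorem W_append (a b : List ℕ) : W (a ++ b) = W a * W b := by
  unfold W; rw [List.map_append, List.prod_append]

theorem W_nil : W [] = 1 := rfl

theorem W_mem (l : List ℕ) (h : (l.all fun i => Nat.blt i 10) = true) : W l ∈ H0 := by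
  rw [List.all_eq_true] at h
  exact word_mem l (fun i hi => by have := h i hi; rwa [Nat.blt_eq] at this)

theorem dvd13 : 13 ∣ Nat.card H0 := by
  have h1 : W [8, 7, 7, 9] ^ 13 = 1 := by
    have h := er ([8, 7, 7, 9, 8, 7, 7, 9, 8, 7, 7, 9, 8, 7, 7, 9, 8, 7, 7, 9, 8, 7, 7, 9, 8, 7, 7, 9, 8, 7, 7, 9,
      8, 7, 7, 9, 8, 7, 7, 9, 8, 7, 7, 9, 8, 7, 7, 9, 8, 7, 7, 9], []) (by decide +kernel)
    have h2 : W [8, 7, 7, 9] ^ 13 = W ([8, 7, 7, 9, 8, 7, 7, 9, 8, 7, 7, 9, 8, 7, 7, 9, 8, 7, 7, 9, 8, 7, 7, 9,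
      8, 7, 7, 9, 8, 7, 7, 9, 8, 7, 7, 9, 8, 7, 7, 9, 8, 7, 7, 9, 8, 7, 7, 9, 8, 7, 7, 9]) := by
      have h3 : ∀ n : ℕ, W [8, 7, 7, 9] ^ n = W ((List.replicate n [8, 7, 7, 9]).flatten) := by
        intro n
        induction n with
        | zero => simp [W]
        | succ n ih => rw [pow_succ', ih, List.replicate_succ, List.flatten_cons, W_append]
      exact h3 13
    rw [h2]; exact h
  have h2 : W [8, 7, 7, 9] ≠ 1 := by
    intro h
    have h3 := not_mem_cert (c := ([], [1], [8, 7, 7, 9])) (by decide +kernel)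
    apply h3
    have h4 : ((([] : List (List ℕ)), [1], [8, 7, 7, 9]).2.2.map yG).prod = W [8, 7, 7, 9] := rfl
    rw [h4, h]
    exact Subgroup.one_mem _
  have : Fact (Nat.Prime 13) := ⟨by norm_num⟩
  have h3 : orderOf (W [8, 7, 7, 9]) = 13 := orderOf_eq_prime h1 h2
  rw [← h3]
  have h4 : W [8, 7, 7, 9] ∈ H0 := W_mem _ (by decide +kernel)
  rw [← Subgroup.orderOf_mk _ h4]
  exact orderOf_dvd_natCard _

theorem dvd25 : 25 ∣ Nat.card H0 := by
  have e1 : W [9, 7, 7] ^ 5 = 1 := by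
    have h := er ([9, 7, 7, 9, 7, 7, 9, 7, 7, 9, 7, 7, 9, 7, 7], []) (by decide +kernel)
    have h2 : W [9, 7, 7] ^ 5 = W [9, 7, 7, 9, 7, 7, 9, 7, 7, 9, 7, 7, 9, 7, 7] := by
      rw [pow_succ, pow_succ, pow_succ, pow_succ, pow_one, ← W_append, ← W_append, ← W_append, ← W_append]
      rfl
    rw [h2]; exact h
  have e2 : W [8, 9, 8, 9, 7, 7, 8, 9, 8] ^ 5 = 1 := by
    have h := er ([8, 9, 8, 9, 7, 7, 8, 9, 8, 8, 9, 8, 9, 7, 7, 8, 9, 8, 8, 9, 8, 9, 7, 7, 8, 9, 8,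
      8, 9, 8, 9, 7, 7, 8, 9, 8, 8, 9, 8, 9, 7, 7, 8, 9, 8], []) (by decide +kernel)
    have h2 : W [8, 9, 8, 9, 7, 7, 8, 9, 8] ^ 5 = W [8, 9, 8, 9, 7, 7, 8, 9, 8, 8, 9, 8, 9, 7, 7, 8, 9, 8, 8, 9, 8, 9, 7, 7, 8, 9, 8,
      8, 9, 8, 9, 7, 7, 8, 9, 8, 8, 9, 8, 9, 7, 7, 8, 9, 8] := by
      rw [pow_succ, pow_succ, pow_succ, pow_succ, pow_one, ← W_append, ← W_append, ← W_append, ← W_append]
      rfl
    rw [h2]; exact h
  have e3 : W [8, 9, 8, 9, 7, 7, 8, 9, 8] * W [9, 7, 7] = W [9, 7, 7] * W [8, 9, 8, 9, 7, 7, 8, 9, 8] := by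
    rw [← W_append, ← W_append]
    exact (er ([9, 7, 7, 8, 9, 8, 9, 7, 7, 8, 9, 8], [8, 9, 8, 9, 7, 7, 8, 9, 8, 9, 7, 7]) (by decide +kernel)).symm
  set f1 := W [9, 7, 7] with hf1
  set f2 := W [8, 9, 8, 9, 7, 7, 8, 9, 8] with hf2
  have n1 : f1 ≠ 1 := by
    intro h
    have h3 := not_mem_cert (c := ([], [1], [9, 7, 7])) (by decide +kernel)
    apply h3
    have h4 : ((([] : List (List ℕ)), [1], [9, 7, 7]).2.2.map yG).prod = f1 := rfl
    rw [h4, h]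
    exact Subgroup.one_mem _
  have n2 : f2 ∉ Subgroup.zpowers f1 := by
    intro h
    have h3 := not_mem_cert (c := ([[9, 7, 7]], [2164260865], [8, 9, 8, 9, 7, 7, 8, 9, 8])) (by decide +kernel)
    apply h3
    have h4 : (([[9, 7, 7]], [2164260865], [8, 9, 8, 9, 7, 7, 8, 9, 8]) : List (List ℕ) × List ℕ × List ℕ).2.2 =
      [8, 9, 8, 9, 7, 7, 8, 9, 8] := rfl
    have h5 : Subgroup.zpowers f1 ≤ Subgroup.closure {g | ∃ v ∈ [[9, 7, 7]], g = (List.map yG v).prod} := by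
      rw [Subgroup.zpowers_le]
      exact Subgroup.subset_closure ⟨[9, 7, 7], by simp, rfl⟩
    exact h5 h
  have hK : 5 ∣ Nat.card (Subgroup.zpowers f1) := by
    have : Fact (Nat.Prime 5) := ⟨by norm_num⟩
    rw [Nat.card_zpowers, orderOf_eq_prime e1 n1]
  have hcomm : ∀ k ∈ Subgroup.zpowers f1, f2 * k * f2⁻¹ ∈ Subgroup.zpowers f1 := conj_zpowers_of_comm e3
  have h := div_step (p := 5) (by norm_num) hcomm (by rw [e2]; exact Subgroup.one_mem _) n2 hK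
  refine dvd_trans h (Subgroup.card_dvd_of_le ?_)
  rw [sup_le_iff, Subgroup.zpowers_le, Subgroup.zpowers_le]
  exact ⟨W_mem _ (by decide +kernel), W_mem _ (by decide +kernel)⟩

theorem dvd27 : 27 ∣ Nat.card H0 := by
  have e1 : W [8, 0] ^ 3 = 1 := by
    have h := er ([8, 0, 8, 0, 8, 0], []) (by decide +kernel)
    have h2 : W [8, 0] ^ 3 = W [8, 0, 8, 0, 8, 0] := by
      rw [pow_succ, pow_succ, pow_one, ← W_append, ← W_append]
      rfl
    rw [h2]; exact h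
  have e2 : W [9, 8, 9, 8, 0, 9, 8, 9] ^ 3 = 1 := by
    have h := er ([9, 8, 9, 8, 0, 9, 8, 9, 9, 8, 9, 8, 0, 9, 8, 9, 9, 8, 9, 8, 0, 9, 8, 9], []) (by decide +kernel)
    have h2 : W [9, 8, 9, 8, 0, 9, 8, 9] ^ 3 = W [9, 8, 9, 8, 0, 9, 8, 9, 9, 8, 9, 8, 0, 9, 8, 9, 9, 8, 9, 8, 0, 9, 8, 9] := by
      rw [pow_succ, pow_succ, pow_one, ← W_append, ← W_append]
      rfl
    rw [h2]; exact h
  have e3 : W [9, 8, 7, 7, 7, 9, 8, 7, 7, 7, 0, 9, 0, 8, 9, 0, 7, 8, 9, 7, 8, 9] ^ 3 = 1 := by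
    have h := er ([9, 8, 7, 7, 7, 9, 8, 7, 7, 7, 0, 9, 0, 8, 9, 0, 7, 8, 9, 7, 8, 9,
      9, 8, 7, 7, 7, 9, 8, 7, 7, 7, 0, 9, 0, 8, 9, 0, 7, 8, 9, 7, 8, 9,
      9, 8, 7, 7, 7, 9, 8, 7, 7, 7, 0, 9, 0, 8, 9, 0, 7, 8, 9, 7, 8, 9], []) (by decide +kernel)
    have h2 : W [9, 8, 7, 7, 7, 9, 8, 7, 7, 7, 0, 9, 0, 8, 9, 0, 7, 8, 9, 7, 8, 9] ^ 3 =
      W [9, 8, 7, 7, 7, 9, 8, 7, 7, 7, 0, 9, 0, 8, 9, 0, 7, 8, 9, 7, 8, 9,
      9, 8, 7, 7, 7, 9, 8, 7, 7, 7, 0, 9, 0, 8, 9, 0, 7, 8, 9, 7, 8, 9,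
      9, 8, 7, 7, 7, 9, 8, 7, 7, 7, 0, 9, 0, 8, 9, 0, 7, 8, 9, 7, 8, 9] := by
      rw [pow_succ, pow_succ, pow_one, ← W_append, ← W_append]
      rfl
    rw [h2]; exact h
  have c12 : W [8, 0] * W [9, 8, 9, 8, 0, 9, 8, 9] = W [9, 8, 9, 8, 0, 9, 8, 9] * W [8, 0] := by
    rw [← W_append, ← W_append]
    exact er ([8, 0, 9, 8, 9, 8, 0, 9, 8, 9], [9, 8, 9, 8, 0, 9, 8, 9, 8, 0]) (by decide +kernel)
  have cs1 : W [9, 8, 7, 7, 7, 9, 8, 7, 7, 7, 0, 9, 0, 8, 9, 0, 7, 8, 9, 7, 8, 9] * W [8, 0] =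
      W [8, 0] * W [9, 8, 7, 7, 7, 9, 8, 7, 7, 7, 0, 9, 0, 8, 9, 0, 7, 8, 9, 7, 8, 9] := by
    rw [← W_append, ← W_append]
    exact er ([9, 8, 7, 7, 7, 9, 8, 7, 7, 7, 0, 9, 0, 8, 9, 0, 7, 8, 9, 7, 8, 9, 8, 0],
      [8, 0, 9, 8, 7, 7, 7, 9, 8, 7, 7, 7, 0, 9, 0, 8, 9, 0, 7, 8, 9, 7, 8, 9]) (by decide +kernel)
  have cs2 : W [9, 8, 7, 7, 7, 9, 8, 7, 7, 7, 0, 9, 0, 8, 9, 0, 7, 8, 9, 7, 8, 9] * W [9, 8, 9, 8, 0, 9, 8, 9] =
      W [8, 0] * W [8, 0] * W [9, 8, 9, 8, 0, 9, 8, 9] *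
        W [9, 8, 7, 7, 7, 9, 8, 7, 7, 7, 0, 9, 0, 8, 9, 0, 7, 8, 9, 7, 8, 9] := by
    rw [← W_append, ← W_append, ← W_append, ← W_append]
    exact er ([9, 8, 7, 7, 7, 9, 8, 7, 7, 7, 0, 9, 0, 8, 9, 0, 7, 8, 9, 7, 8, 9, 9, 8, 9, 8, 0, 9, 8, 9],
      [8, 0, 8, 0, 9, 8, 9, 8, 0, 9, 8, 9, 9, 8, 7, 7, 7, 9, 8, 7, 7, 7, 0, 9, 0, 8, 9, 0, 7, 8, 9, 7, 8, 9]) (by decide +kernel)
  have n1 : W [8, 0] ≠ 1 := by
    intro h
    have h3 := not_mem_cert (c := ([], [2], [8, 0])) (by decide +kernel)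
    apply h3
    have h4 : ((([] : List (List ℕ)), [2], [8, 0]).2.2.map yG).prod = W [8, 0] := rfl
    rw [h4, h]
    exact Subgroup.one_mem _
  have m1 : W [8, 0] ∈ H0 := W_mem _ (by decide +kernel)
  have m2 : W [9, 8, 9, 8, 0, 9, 8, 9] ∈ H0 := W_mem _ (by decide +kernel)
  have m3 : W [9, 8, 7, 7, 7, 9, 8, 7, 7, 7, 0, 9, 0, 8, 9, 0, 7, 8, 9, 7, 8, 9] ∈ H0 := W_mem _ (by decide +kernel)
  generalize W [8, 0] = t1 at *
  generalize W [9, 8, 9, 8, 0, 9, 8, 9] = t2 at *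
  generalize W [9, 8, 7, 7, 7, 9, 8, 7, 7, 7, 0, 9, 0, 8, 9, 0, 7, 8, 9, 7, 8, 9] = s at *
  have : Fact (Nat.Prime 3) := ⟨by norm_num⟩
  -- `s` does not commute with `t2`
  have hne : s * t2 ≠ t2 * s := by
    intro h
    rw [h] at cs2
    have h1 : t1 * t1 = 1 := by
      have h2 : 1 * (t2 * s) = (t1 * t1) * (t2 * s) := by rw [one_mul, ← mul_assoc]; exact cs2
      exact (mul_right_cancel h2).symm
    apply n1
    rw [pow_succ, pow_two, h1, one_mul] at e1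
    exact e1
  have hK : 3 ∣ Nat.card (Subgroup.zpowers t1) := by
    rw [Nat.card_zpowers, orderOf_eq_prime e1 n1]
  have z2 : ∀ k ∈ Subgroup.zpowers t1, t2 * k = k * t2 := comm_zpowers c12.symm
  have zs : ∀ k ∈ Subgroup.zpowers t1, s * k = k * s := comm_zpowers cs1
  have h2 := div_step (p := 3) (g := t2) (by norm_num)
    (fun k hk => by rw [z2 k hk, mul_inv_cancel_right]; exact hk) (by rw [e2]; exact Subgroup.one_mem _)
    (fun hmem => hne (zs t2 hmem)) hK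
  set K := Subgroup.zpowers t2 ⊔ Subgroup.zpowers t1 with hKdef
  have hKc : ∀ k ∈ K, t2 * k = k * t2 := by
    intro k hk
    have hle : K ≤ Subgroup.centralizer {t2} := by
      rw [hKdef, sup_le_iff, Subgroup.zpowers_le, Subgroup.zpowers_le, Subgroup.mem_centralizer_singleton_iff,
        Subgroup.mem_centralizer_singleton_iff]
      exact ⟨rfl, c12⟩
    have := hle hk
    rw [Subgroup.mem_centralizer_singleton_iff] at this
    exact this.symm
  have m1K : t1 ∈ K := (le_sup_right : Subgroup.zpowers t1 ≤ K) (Subgroup.mem_zpowers t1)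
  have m2K : t2 ∈ K := (le_sup_left : Subgroup.zpowers t2 ≤ K) (Subgroup.mem_zpowers t2)
  have hnorm : ∀ k ∈ K, s * k * s⁻¹ ∈ K := by
    have hKcl : K = Subgroup.closure {t1, t2} := by
      rw [hKdef, Set.insert_eq, Subgroup.closure_union, ← Subgroup.zpowers_eq_closure, ← Subgroup.zpowers_eq_closure, sup_comm]
    intro k hk
    rw [hKcl] at hk
    refine conj_closure (S := {t1, t2}) (K := K) ?_ k hk
    rintro x (rfl | rfl)
    · rw [cs1, mul_inv_cancel_right]; exact m1K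
    · rw [cs2, mul_inv_cancel_right]
      exact K.mul_mem (K.mul_mem m1K m1K) m2K
  have h3 := div_step (p := 3) (g := s) (by norm_num) hnorm (by rw [e3]; exact Subgroup.one_mem _)
    (fun hmem => hne (hKc s hmem).symm) h2
  refine dvd_trans h3 (Subgroup.card_dvd_of_le ?_)
  rw [hKdef, sup_le_iff, sup_le_iff, Subgroup.zpowers_le, Subgroup.zpowers_le, Subgroup.zpowers_le]
  exact ⟨m3, m2, m1⟩

theorem dvd4096 : 4096 ∣ Nat.card H0 := by
  rw [← card_V]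
  apply Subgroup.card_dvd_of_le
  exact Subgroup.closure_mono (Set.image_mono (fun i hi => by
    have : i < 8 := hi.2
    show i < 10
    omega))

theorem card_H0 : Nat.card H0 = 35942400 := by
  apply le_antisymm
  · exact (card_le Sat_yG).2
  · have h1 : 4096 * 27 ∣ Nat.card H0 :=
      Nat.Coprime.mul_dvd_of_dvd_of_dvd (by norm_num) dvd4096 dvd27
    have h2 : 4096 * 27 * 25 ∣ Nat.card H0 :=
      Nat.Coprime.mul_dvd_of_dvd_of_dvd (by norm_num) h1 dvd25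
    have h3 : 4096 * 27 * 25 * 13 ∣ Nat.card H0 :=
      Nat.Coprime.mul_dvd_of_dvd_of_dvd (by norm_num) h2 dvd13
    have h4 := Nat.le_of_dvd Nat.card_pos h3
    norm_num at h4
    exact h4

end Cfsg.Agent.ChevalleyStructure.Tits.Order
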