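import Mathlib

/-! Matrices over `ZMod 2` indexed by `Fin 4 ⊕ Fin 48`, packed into a natural number (column major, 52 bits
per column), with a product that the kernel evaluates with fast binary arithmetic. -/

set_option autoImplicit false

namespace Cfsg.Agent.ChevalleyStructure.Tits.Pack

/-- position of a coordinate -/
def ix : Fin 4 ⊕ Fin 48 → ℕ
  | Sum.inl i => i.val
  | Sum.inr s => 4 + s.val

theorem ix_inl (i : Fin 4) : ix (Sum.inl i) = i.val := rfl
theorem ix_inr (i : Fin 48) : ix (Sum.inr i) = 4 + i.val := rfl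

theorem ix_lt (i : Fin 4 ⊕ Fin 48) : ix i < 52 := by
  rcases i with i | i
  · rw [ix_inl]; omega
  · rw [ix_inr]; omega

theorem ix_inj {i j : Fin 4 ⊕ Fin 48} (h : ix i = ix j) : i = j := by
  rcases i with i | i <;> rcases j with j | j
  · rw [ix_inl, ix_inl] at h; rw [Fin.ext h]
  · rw [ix_inl, ix_inr] at h; omega
  · rw [ix_inl, ix_inr] at h; omega
  · rw [ix_inr, ix_inr] at h
    have h2 : i.val = j.val := by omega
    rw [Fin.ext h2]

/-- truth value in `ZMod 2` -/
def bz (b : Bool) : ZMod 2 := if b then 1 else 0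

theorem bz_xor (a b : Bool) : bz (a ^^ b) = bz a + bz b := by
  cases a <;> cases b <;> rfl

theorem bz_and (a b : Bool) : bz (a && b) = bz a * bz b := by
  cases a <;> cases b <;> rfl

/-- The matrix packed in a number. -/
def toMat (P : ℕ) : Matrix (Fin 4 ⊕ Fin 48) (Fin 4 ⊕ Fin 48) (ZMod 2) :=
  Matrix.of fun i j => bz (P.testBit (52 * ix j + ix i))

theorem toMat_apply (P : ℕ) (i j : Fin 4 ⊕ Fin 48) : toMat P i j = bz (P.testBit (52 * ix j + ix i)) := rfl

/-- the number `∑_{j < 52} 2^(52 j)` -/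
def MASK : ℕ := (2 ^ 2704 - 1) / (2 ^ 52 - 1)

/-- spread of a boolean sequence -/
def spr (b : ℕ → Bool) : ℕ → ℕ
  | 0 => 0
  | n + 1 => 2 ^ (52 * n) * (b n).toNat + spr b n

theorem spr_bound (b : ℕ → Bool) (n : ℕ) : (2 ^ 52 - 1) * spr b n < 2 ^ (52 * n) := by
  induction n with
  | zero => simp [spr]
  | succ n ih =>
    have h1 : (b n).toNat ≤ 1 := Bool.toNat_le (b n)
    have h2 : 2 ^ (52 * n) * (b n).toNat ≤ 2 ^ (52 * n) := by
      calc 2 ^ (52 * n) * (b n).toNat ≤ 2 ^ (52 * n) * 1 := Nat.mul_le_mul_left _ h1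
        _ = _ := by ring
    have h3 : 2 ^ (52 * (n + 1)) = 2 ^ 52 * 2 ^ (52 * n) := by ring
    rw [h3, spr]
    norm_num at ih ⊢
    omega

theorem mul_spr_lt (a : ℕ) (ha : a < 2 ^ 52) (b : ℕ → Bool) (n : ℕ) : a * spr b n < 2 ^ (52 * n) := by
  have h1 : a ≤ 2 ^ 52 - 1 := by omega
  exact lt_of_le_of_lt (Nat.mul_le_mul_right _ h1) (spr_bound b n)

theorem testBit_mul_spr (a : ℕ) (ha : a < 2 ^ 52) (b : ℕ → Bool) (n j i : ℕ) (hi : i < 52) :
    (a * spr b n).testBit (52 * j + i) = (decide (j < n) && (b j && a.testBit i)) := by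
  induction n with
  | zero => simp [spr]
  | succ n ih =>
    have h1 : a * spr b (n + 1) = 2 ^ (52 * n) * (a * (b n).toNat) + a * spr b n := by
      rw [spr]; ring
    rw [h1, Nat.testBit_two_pow_mul_add _ (mul_spr_lt a ha b n)]
    rcases lt_trichotomy j n with h | h | h
    · have h2 : 52 * j + i < 52 * n := by omega
      rw [if_pos h2, ih]
      have h3 : j < n + 1 := by omega
      simp [h, h3]
    · subst h
      have h2 : ¬ (52 * j + i < 52 * j) := by omega
      rw [if_neg h2]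
      have h3 : 52 * j + i - 52 * j = i := by omega
      rw [h3]
      cases b j <;> simp
    · have h2 : ¬ (52 * j + i < 52 * n) := by omega
      rw [if_neg h2]
      have h3 : ¬ (j < n + 1) := by omega
      have h4 : a * (b n).toNat < 2 ^ (52 * j + i - 52 * n) := by
        have h5 : a * (b n).toNat ≤ a := by
          calc a * (b n).toNat ≤ a * 1 := Nat.mul_le_mul_left _ (Bool.toNat_le (b n))
            _ = a := by ring
        have h6 : 2 ^ 52 ≤ 2 ^ (52 * j + i - 52 * n) := Nat.pow_le_pow_right (by norm_num) (by omega)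
        omega
      rw [Nat.testBit_lt_two_pow h4]
      simp [h3]

theorem MASK_eq : MASK = spr (fun _ => true) 52 := by decide +kernel

theorem testBit_spr (b : ℕ → Bool) (n p : ℕ) :
    (spr b n).testBit p = (decide (p / 52 < n) && (b (p / 52) && decide (p % 52 = 0))) := by
  have h := testBit_mul_spr 1 (by norm_num) b n (p / 52) (p % 52) (Nat.mod_lt _ (by norm_num))
  have h2 : 52 * (p / 52) + p % 52 = p := Nat.div_add_mod p 52
  rw [h2, one_mul] at h
  rw [h]
  have h3 : Nat.testBit 1 (p % 52) = decide (p % 52 = 0) := by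
    rw [Bool.eq_iff_iff, decide_eq_true_iff]
    exact Nat.testBit_one_eq_true_iff_self_eq_zero
  rw [h3]

theorem land_MASK (H k : ℕ) :
    (H >>> k) &&& MASK = spr (fun j => H.testBit (52 * j + k)) 52 := by
  apply Nat.eq_of_testBit_eq
  intro p
  rw [MASK_eq, Nat.testBit_and, Nat.testBit_shiftRight, testBit_spr, testBit_spr]
  by_cases h : p % 52 = 0
  · have h2 : 52 * (p / 52) = p := by omega
    have h3 : k + p = 52 * (p / 52) + k := by omega
    rw [h3]
    simp only [h]
    cases H.testBit (52 * (p / 52) + k) <;> simp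
  · simp [h]

/-- partial products -/
def mulAux (G H : ℕ) : ℕ → ℕ := fun n =>
  Nat.rec (motive := fun _ => ℕ) 0
    (fun k acc => Nat.xor acc (Nat.mul (Nat.mod (Nat.shiftRight G (Nat.mul 52 k)) 4503599627370496)
      (Nat.land (Nat.shiftRight H k) MASK))) n

theorem mulAux_zero (G H : ℕ) : mulAux G H 0 = 0 := rfl
theorem mulAux_succ (G H n : ℕ) : mulAux G H (n + 1) =
    mulAux G H n ^^^ (((G >>> (52 * n)) % 2 ^ 52) * ((H >>> n) &&& MASK)) := rfl

/-- product of packed matrices -/
def mulP (G H : ℕ) : ℕ := mulAux G H 52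

theorem testBit_mulAux (G H n : ℕ) (hn : n ≤ 52) (j i : ℕ) (hj : j < 52) (hi : i < 52) :
    bz ((mulAux G H n).testBit (52 * j + i)) =
      ∑ k ∈ Finset.range n, bz (G.testBit (52 * k + i)) * bz (H.testBit (52 * j + k)) := by
  induction n with
  | zero => rw [mulAux_zero]; simp [bz]
  | succ n ih =>
    rw [mulAux_succ, Nat.testBit_xor, bz_xor, ih (by omega), Finset.sum_range_succ,
      land_MASK H n, testBit_mul_spr _ (Nat.mod_lt _ (by norm_num)) _ _ _ _ hi]
    congr 1
    rw [← bz_and, Nat.testBit_mod_two_pow, Nat.testBit_shiftRight]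
    simp only [hj, hi, decide_true, Bool.true_and]
    rw [Bool.and_comm]

theorem sum_ix (f : ℕ → ZMod 2) : ∑ k : Fin 4 ⊕ Fin 48, f (ix k) = ∑ k ∈ Finset.range 52, f k := by
  rw [Fintype.sum_sum_type]
  have h : ∑ k ∈ Finset.range 52, f k = ∑ k : Fin (4 + 48), f k.val := by
    rw [Fin.sum_univ_eq_sum_range f (4 + 48)]
  rw [h, Fin.sum_univ_add]
  rfl

theorem toMat_mulP (G H : ℕ) : toMat (mulP G H) = toMat G * toMat H := by
  ext i j
  rw [Matrix.mul_apply, toMat_apply, mulP, testBit_mulAux G H 52 le_rfl _ _ (ix_lt j) (ix_lt i)]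
  rw [← sum_ix (fun k => bz (G.testBit (52 * k + ix i)) * bz (H.testBit (52 * ix j + k)))]
  rfl

/-- packed identity -/
def oneP : ℕ := (2 ^ 2756 - 1) / (2 ^ 53 - 1)

theorem oneP_spec : ∀ j < 52, ∀ i < 52, oneP.testBit (52 * j + i) = decide (i = j) := by
  decide +kernel

theorem toMat_oneP : toMat oneP = 1 := by
  ext i j
  rw [toMat_apply, oneP_spec _ (ix_lt j) _ (ix_lt i), Matrix.one_apply]
  by_cases h : i = j
  · subst h; simp [bz]
  · have h2 : ix i ≠ ix j := fun h3 => h (ix_inj h3)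
    simp [bz, h, h2]

end Cfsg.Agent.ChevalleyStructure.Tits.Pack
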