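import Mathlib

/-! Abstract rank 2 counting and overgroup lemmas (Weyl group of order 16), used for ²F₄(2). -/

set_option autoImplicit false

namespace Cfsg.Agent.ChevalleyStructure.Tits.Rank2

variable {Γ : Type*} [Group Γ]

/-- alternating product `n s * n (!s) * ⋯` with `k` factors -/
def w (n : Bool → Γ) : Bool → ℕ → Γ
  | _, 0 => 1
  | s, k + 1 => n s * w n (!s) k

theorem w_zero (n : Bool → Γ) (s : Bool) : w n s 0 = 1 := rfl
theorem w_succ (n : Bool → Γ) (s : Bool) (k : ℕ) : w n s (k + 1) = n s * w n (!s) k := rfl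

/-- rank 2 data with Weyl group of order 16 and trivial torus -/
structure RD (Γ : Type*) [Group Γ] where
  n : Bool → Γ
  X : Bool → Subgroup Γ
  K : Bool → Subgroup Γ
  U : Subgroup Γ
  nn : ∀ s, n s * n s = 1
  XU : ∀ s, X s ≤ U
  KU : ∀ s, K s ≤ U
  fac : ∀ s, ∀ u ∈ U, ∃ x ∈ X s, ∃ k ∈ K s, u = x * k
  nK : ∀ s, ∀ k ∈ K s, n s * k * n s ∈ K s
  rk1 : ∀ s, ∀ x ∈ X s, x ≠ 1 → ∃ a ∈ X s, ∃ b ∈ X s, n s * x * n s = a * n s * b
  wX : ∀ s k, k < 8 → ∀ x ∈ X s, (w n (!s) k)⁻¹ * x * w n (!s) k ∈ U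
  w8 : w n false 8 = w n true 8

namespace RD

variable (D : RD Γ)

theorem ninv (s : Bool) : (D.n s)⁻¹ = D.n s := inv_eq_of_mul_eq_one_left (D.nn s)

theorem fac' (s : Bool) (u : Γ) (hu : u ∈ D.U) : ∃ k ∈ D.K s, ∃ x ∈ D.X s, u = k * x := by
  obtain ⟨x, hx, k, hk, h⟩ := D.fac s u⁻¹ (D.U.inv_mem hu)
  refine ⟨k⁻¹, (D.K s).inv_mem hk, x⁻¹, (D.X s).inv_mem hx, ?_⟩
  rw [← mul_inv_rev, ← h, inv_inv]

/-- the double coset `U w U` -/
def cell (s : Bool) (k : ℕ) : Set Γ := {g | ∃ u ∈ D.U, ∃ v ∈ D.U, g = u * w D.n s k * v}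

theorem mul_mem_cell {s : Bool} {k : ℕ} {u g : Γ} (hu : u ∈ D.U) (hg : g ∈ D.cell s k) :
    u * g ∈ D.cell s k := by
  obtain ⟨a, ha, b, hb, rfl⟩ := hg
  exact ⟨u * a, D.U.mul_mem hu ha, b, hb, by group⟩

theorem cell_zero (s : Bool) : D.cell s 0 = (D.U : Set Γ) := by
  ext g
  constructor
  · rintro ⟨u, hu, v, hv, rfl⟩
    rw [w_zero, mul_one]
    exact D.U.mul_mem hu hv
  · intro hg
    exact ⟨g, hg, 1, D.U.one_mem, by rw [w_zero]; group⟩

theorem cell_succ {s : Bool} {k : ℕ} {g : Γ} (hg : g ∈ D.cell s (k + 1)) :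
    ∃ x ∈ D.X s, ∃ c ∈ D.cell (!s) k, g = x * D.n s * c := by
  obtain ⟨u, hu, v, hv, rfl⟩ := hg
  obtain ⟨x, hx, y, hy, rfl⟩ := D.fac s u hu
  refine ⟨x, hx, (D.n s * y * D.n s) * w D.n (!s) k * v,
    ⟨_, D.KU s (D.nK s y hy), v, hv, rfl⟩, ?_⟩
  rw [w_succ]
  have h : D.n s * (D.n s * y * D.n s) = y * D.n s := by
    calc D.n s * (D.n s * y * D.n s) = (D.n s * D.n s) * y * D.n s := by group
      _ = y * D.n s := by rw [D.nn s]; group
  calc x * y * (D.n s * w D.n (!s) k) * v = x * (y * D.n s) * w D.n (!s) k * v := by group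
    _ = x * (D.n s * (D.n s * y * D.n s)) * w D.n (!s) k * v := by rw [h]
    _ = x * D.n s * (D.n s * y * D.n s * w D.n (!s) k * v) := by group

theorem n_mul_up {s : Bool} {k : ℕ} (hk : k < 8) {g : Γ} (hg : g ∈ D.cell (!s) k) :
    D.n s * g ∈ D.cell s (k + 1) := by
  obtain ⟨u, hu, v, hv, rfl⟩ := hg
  obtain ⟨y, hy, x, hx, rfl⟩ := D.fac' s u hu
  refine ⟨D.n s * y * D.n s, D.KU s (D.nK s y hy),
    ((w D.n (!s) k)⁻¹ * x * w D.n (!s) k) * v, D.U.mul_mem (D.wX s k hk x hx) hv, ?_⟩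
  rw [w_succ]
  have h : D.n s * y * D.n s * D.n s = D.n s * y := by
    calc D.n s * y * D.n s * D.n s = D.n s * y * (D.n s * D.n s) := by group
      _ = D.n s * y := by rw [D.nn s]; group
  calc D.n s * (y * x * w D.n (!s) k * v) = (D.n s * y) * x * w D.n (!s) k * v := by group
    _ = (D.n s * y * D.n s * D.n s) * x * w D.n (!s) k * v := by rw [h]
    _ = _ := by group

theorem n_mul_down {s : Bool} {k : ℕ} (hk : k < 8) {g : Γ} (hg : g ∈ D.cell s (k + 1)) :
    D.n s * g ∈ D.cell (!s) k ∨ D.n s * g ∈ D.cell s (k + 1) := by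
  obtain ⟨x, hx, c, hc, rfl⟩ := D.cell_succ hg
  by_cases h1 : x = 1
  · left
    subst h1
    have : D.n s * (1 * D.n s * c) = c := by
      calc D.n s * (1 * D.n s * c) = (D.n s * D.n s) * c := by group
        _ = c := by rw [D.nn s, one_mul]
    rw [this]; exact hc
  · right
    obtain ⟨a, ha, b, hb, h⟩ := D.rk1 s x hx h1
    have h2 : D.n s * (x * D.n s * c) = a * (D.n s * (b * c)) := by
      calc D.n s * (x * D.n s * c) = (D.n s * x * D.n s) * c := by group
        _ = a * D.n s * b * c := by rw [h]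
        _ = _ := by group
    rw [h2]
    exact D.mul_mem_cell (D.XU s ha) (D.n_mul_up hk (D.mul_mem_cell (D.XU s hb) hc))

/-- union of all cells -/
def All : Set Γ := {g | ∃ s k, k ≤ 8 ∧ g ∈ D.cell s k}

theorem cell_eight (s t : Bool) : D.cell s 8 = D.cell t 8 := by
  have h : w D.n s 8 = w D.n t 8 := by
    cases s <;> cases t <;> first | rfl | exact D.w8 | exact D.w8.symm
  unfold cell
  rw [h]

theorem n_mul_mem_All (t : Bool) {g : Γ} (hg : g ∈ D.All) : D.n t * g ∈ D.All := by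
  obtain ⟨s, k, hk, hg⟩ := hg
  -- a cell starting with `t`
  have key : ∀ k ≤ 8, g ∈ D.cell t k → D.n t * g ∈ D.All := by
    intro k hk hg
    rcases k with _ | k
    · have h0 : g ∈ D.cell (!t) 0 := by rw [cell_zero] at hg ⊢; exact hg
      exact ⟨t, 1, by norm_num, D.n_mul_up (by norm_num) h0⟩
    · rcases D.n_mul_down (by omega) hg with h | h
      · exact ⟨!t, k, by omega, h⟩
      · exact ⟨t, k + 1, hk, h⟩
  by_cases hs : s = t
  · subst hs; exact key k hk hg
  · have hs2 : s = !t := by cases s <;> cases t <;> simp_all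
    subst hs2
    rcases Nat.lt_or_ge k 8 with h | h
    · exact ⟨t, k + 1, by omega, D.n_mul_up h hg⟩
    · have : k = 8 := by omega
      subst this
      rw [D.cell_eight _ t] at hg
      exact key 8 le_rfl hg

theorem U_mul_mem_All {u g : Γ} (hu : u ∈ D.U) (hg : g ∈ D.All) : u * g ∈ D.All := by
  obtain ⟨s, k, hk, hg⟩ := hg
  exact ⟨s, k, hk, D.mul_mem_cell hu hg⟩

/-- the group generated by `U` and the two reflections -/
def G : Subgroup Γ := Subgroup.closure ((D.U : Set Γ) ∪ Set.range D.n)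

theorem G_subset_All : (D.G : Set Γ) ⊆ D.All := by
  intro g hg
  have hg' : g ∈ Subgroup.closure ((D.U : Set Γ) ∪ Set.range D.n) := hg
  induction hg' using Subgroup.closure_induction_left with
  | one => exact ⟨true, 0, by norm_num, by rw [cell_zero]; exact D.U.one_mem⟩
  | mul_left x hx y hy ih =>
    rcases hx with hx | ⟨s, rfl⟩
    · exact D.U_mul_mem_All hx (ih hy)
    · exact D.n_mul_mem_All s (ih hy)
  | inv_mul_cancel x hx y hy ih =>
    rcases hx with hx | ⟨s, rfl⟩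
    · exact D.U_mul_mem_All (D.U.inv_mem hx) (ih hy)
    · rw [D.ninv]; exact D.n_mul_mem_All s (ih hy)

/-- size bounds -/
def q : Bool → ℕ → ℕ
  | _, 0 => 1
  | s, k + 1 => (if s then 4 else 2) * q (!s) k

theorem cell_card (hX : ∀ s, (D.X s : Set Γ).Finite ∧ (D.X s : Set Γ).ncard ≤ if s then 4 else 2)
    {c : ℕ} (hU : (D.U : Set Γ).Finite ∧ (D.U : Set Γ).ncard ≤ c) (k : ℕ) :
    ∀ s, (D.cell s k).Finite ∧ (D.cell s k).ncard ≤ q s k * c := by
  induction k with
  | zero => intro s; rw [cell_zero]; simpa [q] using hU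
  | succ k ih =>
    intro s
    obtain ⟨ih1, ih2⟩ := ih (!s)
    have hsub : D.cell s (k + 1) ⊆ (fun p : Γ × Γ => p.1 * D.n s * p.2) '' ((D.X s : Set Γ) ×ˢ D.cell (!s) k) := by
      intro g hg
      obtain ⟨x, hx, c, hc, rfl⟩ := D.cell_succ hg
      exact ⟨(x, c), ⟨hx, hc⟩, rfl⟩
    have hfin : ((D.X s : Set Γ) ×ˢ D.cell (!s) k).Finite := (hX s).1.prod ih1
    refine ⟨(hfin.image _).subset hsub, ?_⟩
    calc (D.cell s (k + 1)).ncard ≤ _ := Set.ncard_le_ncard hsub (hfin.image _)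
      _ ≤ ((D.X s : Set Γ) ×ˢ D.cell (!s) k).ncard := Set.ncard_image_le hfin
      _ = (D.X s : Set Γ).ncard * (D.cell (!s) k).ncard := Set.ncard_prod
      _ ≤ (if s then 4 else 2) * (q (!s) k * c) := Nat.mul_le_mul (hX s).2 ih2
      _ = q s (k + 1) * c := by rw [q]; ring

theorem All_eq : D.All = (⋃ k ∈ Finset.range 9, D.cell false k) ∪ (⋃ k ∈ Finset.range 7, D.cell true (k + 1)) := by
  ext g
  constructor
  · rintro ⟨s, k, hk, hg⟩
    rcases s with _ | _
    · left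
      simp only [Set.mem_iUnion]
      exact ⟨k, Finset.mem_range.mpr (by omega), hg⟩
    · rcases k with _ | k
      · left
        simp only [Set.mem_iUnion]
        refine ⟨0, Finset.mem_range.mpr (by omega), ?_⟩
        rw [cell_zero] at hg ⊢; exact hg
      · by_cases h : k = 7
        · left
          subst h
          simp only [Set.mem_iUnion]
          refine ⟨8, Finset.mem_range.mpr (by omega), ?_⟩
          rw [D.cell_eight _ true]; exact hg
        · right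
          simp only [Set.mem_iUnion]
          exact ⟨k, Finset.mem_range.mpr (by omega), hg⟩
  · rintro (h | h)
    · simp only [Set.mem_iUnion] at h
      obtain ⟨k, hk, hg⟩ := h
      exact ⟨false, k, by have := Finset.mem_range.mp hk; omega, hg⟩
    · simp only [Set.mem_iUnion] at h
      obtain ⟨k, hk, hg⟩ := h
      exact ⟨true, k + 1, by have := Finset.mem_range.mp hk; omega, hg⟩

theorem ncard_biUnion_le (f : ℕ → Set Γ) (n : ℕ) :
    (⋃ k ∈ Finset.range n, f k).ncard ≤ ∑ k ∈ Finset.range n, (f k).ncard := by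
  induction n with
  | zero => simp
  | succ n ih =>
    rw [Finset.sum_range_succ]
    have : (⋃ k ∈ Finset.range (n + 1), f k) = (⋃ k ∈ Finset.range n, f k) ∪ f n := by
      ext x
      simp only [Set.mem_iUnion, Finset.mem_range, Set.mem_union]
      constructor
      · rintro ⟨k, hk, hx⟩
        rcases Nat.lt_or_ge k n with h | h
        · exact Or.inl ⟨k, h, hx⟩
        · have : k = n := by omega
          subst this; exact Or.inr hx
      · rintro (⟨k, hk, hx⟩ | hx)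
        · exact ⟨k, by omega, hx⟩
        · exact ⟨n, by omega, hx⟩
    rw [this]
    exact (Set.ncard_union_le _ _).trans (Nat.add_le_add_right ih _)

theorem All_card (hX : ∀ s, (D.X s : Set Γ).Finite ∧ (D.X s : Set Γ).ncard ≤ if s then 4 else 2)
    (hU : (D.U : Set Γ).Finite ∧ (D.U : Set Γ).ncard ≤ 4096) :
    D.All.Finite ∧ D.All.ncard ≤ 35942400 := by
  have h := fun k s => D.cell_card hX hU k s
  rw [D.All_eq]
  constructor
  · apply Set.Finite.union
    · exact Set.Finite.biUnion (Finset.finite_toSet _) (fun k _ => (h k false).1)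
    · exact Set.Finite.biUnion (Finset.finite_toSet _) (fun k _ => (h (k + 1) true).1)
  · refine (Set.ncard_union_le _ _).trans ?_
    have h1 := (ncard_biUnion_le (fun k => D.cell false k) 9).trans
      (Finset.sum_le_sum (fun k _ => (h k false).2))
    have h2 := (ncard_biUnion_le (fun k => D.cell true (k + 1)) 7).trans
      (Finset.sum_le_sum (fun k _ => (h (k + 1) true).2))
    have h3 : ∑ k ∈ Finset.range 9, q false k * 4096 = 5851 * 4096 := by decide +kernel
    have h4 : ∑ k ∈ Finset.range 7, q true (k + 1) * 4096 = 2924 * 4096 := by decide +kernel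
    rw [h3] at h1
    rw [h4] at h2
    calc _ ≤ 5851 * 4096 + 2924 * 4096 := Nat.add_le_add h1 h2
      _ = 35942400 := by norm_num

theorem G_card (hX : ∀ s, (D.X s : Set Γ).Finite ∧ (D.X s : Set Γ).ncard ≤ if s then 4 else 2)
    (hU : (D.U : Set Γ).Finite ∧ (D.U : Set Γ).ncard ≤ 4096) :
    Finite D.G ∧ Nat.card D.G ≤ 35942400 := by
  obtain ⟨h1, h2⟩ := D.All_card hX hU
  have h3 : (D.G : Set Γ).Finite := h1.subset D.G_subset_All
  refine ⟨h3, ?_⟩
  have h4 : Nat.card D.G = (D.G : Set Γ).ncard := rfl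
  rw [h4]
  exact (Set.ncard_le_ncard D.G_subset_All h1).trans h2

/-- a subgroup over `U` containing `w s (k+1)` contains `n s` -/
theorem n_mem_of_w_mem (hne : ∀ s, ∃ x ∈ D.X s, x ≠ 1) {H : Subgroup Γ} (hH : D.U ≤ H) {s : Bool} {k : ℕ}
    (hk : k < 8) (h : w D.n s (k + 1) ∈ H) : D.n s ∈ H := by
  obtain ⟨x, hx, hx1⟩ := hne s
  have h1 := hH (D.wX s k hk x hx)
  have h2 := H.mul_mem (H.mul_mem h h1) (H.inv_mem h)
  have h3 : w D.n s (k + 1) * ((w D.n (!s) k)⁻¹ * x * w D.n (!s) k) * (w D.n s (k + 1))⁻¹ = D.n s * x * D.n s := by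
    rw [w_succ]
    nth_rewrite 4 [← D.ninv s]
    group
  rw [h3] at h2
  obtain ⟨a, ha, b, hb, h4⟩ := D.rk1 s x hx hx1
  rw [h4] at h2
  have h5 := H.mul_mem (H.mul_mem (H.inv_mem (hH (D.XU s ha))) h2) (H.inv_mem (hH (D.XU s hb)))
  have h6 : a⁻¹ * (a * D.n s * b) * b⁻¹ = D.n s := by group
  rwa [h6] at h5

theorem exists_n_mem (hne : ∀ s, ∃ x ∈ D.X s, x ≠ 1) {H : Subgroup Γ} (hH : D.U ≤ H) {g : Γ}
    (hg : g ∈ H) (hA : g ∈ D.All) (hgU : g ∉ D.U) : ∃ s, D.n s ∈ H := by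
  obtain ⟨s, k, hk, hg2⟩ := hA
  rcases k with _ | k
  · rw [cell_zero] at hg2; exact absurd hg2 hgU
  · obtain ⟨u, hu, v, hv, rfl⟩ := hg2
    refine ⟨s, D.n_mem_of_w_mem hne hH (k := k) (by omega) ?_⟩
    have h5 := H.mul_mem (H.mul_mem (H.inv_mem (hH hu)) hg) (H.inv_mem (hH hv))
    have h6 : u⁻¹ * (u * w D.n s (k + 1) * v) * v⁻¹ = w D.n s (k + 1) := by group
    rwa [h6] at h5

/-- A normal subgroup not inside `U` supplements `U`. -/
theorem normal_sup_U (hG : D.G = ⊤) (hne : ∀ s, ∃ x ∈ D.X s, x ≠ 1) (N : Subgroup Γ) [hN : N.Normal]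
    (hNU : ¬ N ≤ D.U) : N ⊔ D.U = ⊤ := by
  have hAll : ∀ g : Γ, g ∈ D.All := by
    intro g
    apply D.G_subset_All
    rw [hG]; trivial
  obtain ⟨g, hgN, hgU⟩ := SetLike.not_le_iff_exists.mp hNU
  have hUH : D.U ≤ N ⊔ D.U := le_sup_right
  have hNH : N ≤ N ⊔ D.U := le_sup_left
  obtain ⟨s, hs⟩ := D.exists_n_mem hne hUH (hNH hgN) (hAll g) hgU
  have ht : D.n (!s) ∈ N ⊔ D.U := by
    obtain ⟨m, hm, u, hu, hmu⟩ := Subgroup.mem_sup_of_normal_left.mp hs
    -- m = n s * u⁻¹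
    obtain ⟨k, hk, x, hx, hkx⟩ := D.fac' (!s) u⁻¹ (D.U.inv_mem hu)
    have hm1 : m = D.n s * k * x := by
      rw [mul_assoc, ← hkx, ← hmu]; group
    have h1 : x * m * x⁻¹ ∈ N := hN.conj_mem m hm x
    have h2 : D.n (!s) * (x * m * x⁻¹) * (D.n (!s))⁻¹ ∈ N := hN.conj_mem _ h1 _
    have h3 : D.n (!s) * (x * m * x⁻¹) * (D.n (!s))⁻¹ =
        w D.n (!s) 3 * (((w D.n s 2)⁻¹ * x * w D.n s 2) * (D.n (!s) * k * D.n (!s))) := by
      rw [hm1]
      simp only [w_succ, w_zero, Bool.not_not, mul_one]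
      rw [D.ninv (!s)]
      have h4 : (D.n s * D.n (!s))⁻¹ = D.n (!s) * D.n s := by
        rw [mul_inv_rev, D.ninv, D.ninv]
      rw [h4]
      have e1 := D.nn s
      have e2 := D.nn (!s)
      calc D.n (!s) * (x * (D.n s * k * x) * x⁻¹) * D.n (!s)
          = D.n (!s) * x * D.n s * (k * D.n (!s)) := by group
        _ = D.n (!s) * x * D.n s * (1 * k * D.n (!s)) := by rw [one_mul]
        _ = D.n (!s) * x * D.n s * ((D.n (!s) * D.n (!s)) * k * D.n (!s)) := by rw [e2]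
        _ = D.n (!s) * 1 * x * (D.n s * D.n (!s)) * (D.n (!s) * k * D.n (!s)) := by group
        _ = D.n (!s) * (D.n s * 1 * D.n s) * x * (D.n s * D.n (!s)) * (D.n (!s) * k * D.n (!s)) := by
            rw [mul_one (D.n s), e1]
        _ = D.n (!s) * (D.n s * (D.n (!s) * D.n (!s)) * D.n s) * x * (D.n s * D.n (!s)) *
              (D.n (!s) * k * D.n (!s)) := by rw [e2]
        _ = _ := by group
    rw [h3] at h2
    have h5 : ((w D.n s 2)⁻¹ * x * w D.n s 2) ∈ D.U := by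
      have := D.wX (!s) 2 (by norm_num) x hx
      rwa [Bool.not_not] at this
    have h6 : (((w D.n s 2)⁻¹ * x * w D.n s 2) * (D.n (!s) * k * D.n (!s))) ∈ N ⊔ D.U :=
      hUH (D.U.mul_mem h5 (D.KU _ (D.nK _ k hk)))
    have h7 := (N ⊔ D.U).mul_mem (hNH h2) ((N ⊔ D.U).inv_mem h6)
    rw [mul_inv_cancel_right] at h7
    exact D.n_mem_of_w_mem hne hUH (k := 2) (by norm_num) h7
  rw [eq_top_iff, ← hG]
  unfold G
  rw [Subgroup.closure_le]
  rintro x (hx | ⟨t, rfl⟩)
  · exact hUH hx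
  · by_cases h : t = s
    · subst h; exact hs
    · have : t = !s := by cases s <;> cases t <;> simp_all
      rw [this]; exact ht

end RD

end Cfsg.Agent.ChevalleyStructure.Tits.Rank2
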