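import Cfsg.Agent.ChevalleyStructure.Tits.Data
import Cfsg.Agent.ChevalleyStructure.Tits.Rank2

/-! Any group with letters satisfying the relations has rank 2 data; the generated group has order at most
35942400. -/

set_option autoImplicit false

namespace Cfsg.Agent.ChevalleyStructure.Tits.Sat

open Cfsg.Agent.ChevalleyStructure.Tits.Data Cfsg.Agent.ChevalleyStructure.Tits.Rank2

variable {Γ : Type*} [Group Γ]

/-- the letters satisfy the relations -/
def Sat (y : ℕ → Γ) : Prop := ∀ p ∈ rels, (p.1.map y).prod = (p.2.map y).prod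

theorem conj_zpowers {K : Subgroup Γ} {g : Γ} {m : ℕ} (hm : 0 < m) (hg : g ^ m = 1)
    (h : ∀ k ∈ K, g * k * g⁻¹ ∈ K) : ∀ x ∈ Subgroup.zpowers g, ∀ k ∈ K, x * k * x⁻¹ ∈ K := by
  intro x hx k hk
  have hfin : IsOfFinOrder g := isOfFinOrder_iff_pow_eq_one.mpr ⟨m, hm, hg⟩
  rw [← hfin.mem_powers_iff_mem_zpowers] at hx
  obtain ⟨n, rfl⟩ := hx
  simp only
  induction n with
  | zero => simpa using hk
  | succ n ih =>
    have : g ^ (n + 1) * k * (g ^ (n + 1))⁻¹ = g * (g ^ n * k * (g ^ n)⁻¹) * g⁻¹ := by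
      rw [pow_succ']; group
    rw [this]
    exact h _ ih

theorem conj_closure {S : Set Γ} {K : Subgroup Γ} {g : Γ} (h : ∀ s ∈ S, g * s * g⁻¹ ∈ K) :
    ∀ k ∈ Subgroup.closure S, g * k * g⁻¹ ∈ K := by
  intro k hk
  induction hk using Subgroup.closure_induction with
  | mem x hx => exact h x hx
  | one => simpa using K.one_mem
  | mul a b _ _ ha hb =>
    have : g * (a * b) * g⁻¹ = (g * a * g⁻¹) * (g * b * g⁻¹) := by group
    rw [this]; exact K.mul_mem ha hb
  | inv a _ ha =>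
    have : g * a⁻¹ * g⁻¹ = (g * a * g⁻¹)⁻¹ := by group
    rw [this]; exact K.inv_mem ha

theorem mem_sup_fac {X K : Subgroup Γ} (h : ∀ x ∈ X, ∀ k ∈ K, x * k * x⁻¹ ∈ K) :
    ∀ g ∈ X ⊔ K, ∃ x ∈ X, ∃ k ∈ K, g = x * k := by
  intro g hg
  rw [Subgroup.sup_eq_closure] at hg
  have key : ∀ a ∈ (X : Set Γ) ∪ (K : Set Γ), ∀ y : Γ, (∃ x ∈ X, ∃ k ∈ K, y = x * k) →
      ∃ x ∈ X, ∃ k ∈ K, a * y = x * k := by
    rintro a (ha | ha) y ⟨x, hx, k, hk, rfl⟩
    · exact ⟨a * x, X.mul_mem ha hx, k, hk, by group⟩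
    · refine ⟨x, hx, (x⁻¹ * a * x⁻¹⁻¹) * k, K.mul_mem (h _ (X.inv_mem hx) _ ha) hk, by group⟩
  induction hg using Subgroup.closure_induction_left with
  | one => exact ⟨1, X.one_mem, 1, K.one_mem, by group⟩
  | mul_left x hx y hy ih => exact key x hx y ih
  | inv_mul_cancel x hx y hy ih =>
    refine key x⁻¹ ?_ y ih
    rcases hx with hx | hx
    · exact Or.inl (X.inv_mem hx)
    · exact Or.inr (K.inv_mem hx)

theorem card_sup_le {X K : Subgroup Γ} (h : ∀ x ∈ X, ∀ k ∈ K, x * k * x⁻¹ ∈ K) {a b : ℕ}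
    (hX : (X : Set Γ).Finite ∧ (X : Set Γ).ncard ≤ a) (hK : (K : Set Γ).Finite ∧ (K : Set Γ).ncard ≤ b) :
    ((X ⊔ K : Subgroup Γ) : Set Γ).Finite ∧ ((X ⊔ K : Subgroup Γ) : Set Γ).ncard ≤ a * b := by
  have hsub : ((X ⊔ K : Subgroup Γ) : Set Γ) ⊆ (fun p : Γ × Γ => p.1 * p.2) '' ((X : Set Γ) ×ˢ (K : Set Γ)) := by
    intro g hg
    obtain ⟨x, hx, k, hk, rfl⟩ := mem_sup_fac h g hg
    exact ⟨(x, k), ⟨hx, hk⟩, rfl⟩
  have hfin : ((X : Set Γ) ×ˢ (K : Set Γ)).Finite := hX.1.prod hK.1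
  refine ⟨(hfin.image _).subset hsub, ?_⟩
  calc _ ≤ _ := Set.ncard_le_ncard hsub (hfin.image _)
    _ ≤ ((X : Set Γ) ×ˢ (K : Set Γ)).ncard := Set.ncard_image_le hfin
    _ = (X : Set Γ).ncard * (K : Set Γ).ncard := Set.ncard_prod
    _ ≤ a * b := Nat.mul_le_mul hX.2 hK.2

theorem zpowers_card {g : Γ} {m : ℕ} (hm : 0 < m) (hg : g ^ m = 1) :
    (Subgroup.zpowers g : Set Γ).Finite ∧ (Subgroup.zpowers g : Set Γ).ncard ≤ m := by
  have hfin : IsOfFinOrder g := isOfFinOrder_iff_pow_eq_one.mpr ⟨m, hm, hg⟩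
  refine ⟨hfin.finite_zpowers, ?_⟩
  have h1 : (Subgroup.zpowers g : Set Γ).ncard = Nat.card (Subgroup.zpowers g) := rfl
  rw [h1, Nat.card_zpowers]
  exact Nat.le_of_dvd hm (orderOf_dvd_of_pow_eq_one hg)

/-- the subgroup generated by the letters `k, …, 7` -/
def V (y : ℕ → Γ) (k : ℕ) : Subgroup Γ := Subgroup.closure (y '' {i | k ≤ i ∧ i < 8})

/-- the subgroup generated by the letters `0, …, 6` -/
def V' (y : ℕ → Γ) : Subgroup Γ := Subgroup.closure (y '' {i | i < 7})

theorem mem_V (y : ℕ → Γ) {k i : ℕ} (h1 : k ≤ i) (h2 : i < 8) : y i ∈ V y k :=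
  Subgroup.subset_closure ⟨i, ⟨h1, h2⟩, rfl⟩

theorem mem_V' (y : ℕ → Γ) {i : ℕ} (h : i < 7) : y i ∈ V' y :=
  Subgroup.subset_closure ⟨i, h, rfl⟩

theorem V_mono (y : ℕ → Γ) {k l : ℕ} (h : k ≤ l) : V y l ≤ V y k :=
  Subgroup.closure_mono (Set.image_mono (fun _ hi => ⟨h.trans hi.1, hi.2⟩))

theorem V'_le (y : ℕ → Γ) : V' y ≤ V y 0 :=
  Subgroup.closure_mono (Set.image_mono (fun i (hi : i < 7) => ⟨Nat.zero_le _, by omega⟩))

theorem V_eight (y : ℕ → Γ) : V y 8 = ⊥ := by
  unfold V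
  have : {i | 8 ≤ i ∧ i < 8} = (∅ : Set ℕ) := by
    ext i; simp only [Set.mem_ofPred_eq, Set.mem_empty_iff_false, iff_false]; omega
  rw [this, Set.image_empty, Subgroup.closure_empty]

theorem V_succ (y : ℕ → Γ) {k : ℕ} (hk : k < 8) : V y k = Subgroup.zpowers (y k) ⊔ V y (k + 1) := by
  apply le_antisymm
  · unfold V
    rw [Subgroup.closure_le]
    rintro _ ⟨i, ⟨hi1, hi2⟩, rfl⟩
    by_cases h : i = k
    · subst h
      exact (le_sup_left : Subgroup.zpowers (y i) ≤ _) (Subgroup.mem_zpowers _)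
    · exact (le_sup_right : V y (k + 1) ≤ _) (mem_V y (by omega) hi2)
  · apply sup_le
    · rw [Subgroup.zpowers_le]; exact mem_V y le_rfl hk
    · exact V_mono y (Nat.le_succ k)

theorem V_zero' (y : ℕ → Γ) : V y 0 = Subgroup.zpowers (y 7) ⊔ V' y := by
  apply le_antisymm
  · unfold V
    rw [Subgroup.closure_le]
    rintro _ ⟨i, ⟨hi1, hi2⟩, rfl⟩
    by_cases h : i = 7
    · subst h
      exact (le_sup_left : Subgroup.zpowers (y 7) ≤ _) (Subgroup.mem_zpowers _)
    · exact (le_sup_right : V' y ≤ _) (mem_V' y (by omega))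
  · apply sup_le
    · rw [Subgroup.zpowers_le]; exact mem_V y (by norm_num) (by norm_num)
    · exact V'_le y

theorem list_prod_mem {K : Subgroup Γ} (y : ℕ → Γ) (l : List ℕ) (h : ∀ i ∈ l, y i ∈ K) : (l.map y).prod ∈ K := by
  induction l with
  | nil => simp
  | cons a l ih =>
    rw [List.map_cons, List.prod_cons]
    exact K.mul_mem (h a List.mem_cons_self) (ih (fun i hi => h i (List.mem_cons_of_mem a hi)))

theorem rel_conj_aux : ∀ i < 8, ∀ j < 8, i < j → (rels.any fun p => p.1 == [i, j] && (p.2 == p.2.dropLast ++ [i] &&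
    p.2.dropLast.all fun l => Nat.ble (i + 1) l && Nat.blt l 8)) = true := by decide +kernel

theorem rel_conj (i : ℕ) (hi : i < 8) (j : ℕ) (hj : j < 8) (hij : i < j) :
    ∃ p ∈ rels, p.1 = [i, j] ∧ p.2 = p.2.dropLast ++ [i] ∧ ∀ l ∈ p.2.dropLast, i + 1 ≤ l ∧ l < 8 := by
  have h := rel_conj_aux i hi j hj hij
  rw [List.any_eq_true] at h
  obtain ⟨p, hp, h⟩ := h
  rw [Bool.and_eq_true, Bool.and_eq_true, beq_iff_eq, beq_iff_eq, List.all_eq_true] at h
  refine ⟨p, hp, h.1, h.2.1, fun l hl => ?_⟩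
  have h2 := h.2.2 l hl
  rw [Bool.and_eq_true, Nat.ble_eq, Nat.blt_eq] at h2
  exact h2

theorem rel_conj'_aux : ∀ j < 7, (rels.any fun p => p.1 == [7, j] && (p.2 == p.2.dropLast ++ [7] &&
    p.2.dropLast.all fun l => Nat.blt l 7)) = true := by decide +kernel

theorem rel_conj' (j : ℕ) (hj : j < 7) :
    ∃ p ∈ rels, p.1 = [7, j] ∧ p.2 = p.2.dropLast ++ [7] ∧ ∀ l ∈ p.2.dropLast, l < 7 := by
  have h := rel_conj'_aux j hj
  rw [List.any_eq_true] at h
  obtain ⟨p, hp, h⟩ := h
  rw [Bool.and_eq_true, Bool.and_eq_true, beq_iff_eq, beq_iff_eq, List.all_eq_true] at h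
  refine ⟨p, hp, h.1, h.2.1, fun l hl => ?_⟩
  have h2 := h.2.2 l hl
  rw [Nat.blt_eq] at h2
  exact h2

theorem rel_ord : ∀ i < 8, (List.replicate (if i % 2 = 0 then 2 else 4) i, []) ∈ rels := by decide +kernel

theorem rel_n1 : ∀ j < 8, 1 ≤ j → ([8, j], [8 - j, 8]) ∈ rels := by decide +kernel

theorem rel_n2 : ∀ j < 7, ([9, j], [6 - j, 9]) ∈ rels := by decide +kernel

/-- order bound of the letters -/
def od (i : ℕ) : ℕ := if i % 2 = 0 then 2 else 4

theorem od_pos (i : ℕ) : 0 < od i := by unfold od; split_ifs <;> norm_num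

variable {y : ℕ → Γ} (hy : Sat y)

include hy

theorem pow_od {i : ℕ} (hi : i < 8) : y i ^ od i = 1 := by
  have h := hy _ (rel_ord i hi)
  simpa [od] using h

theorem conj_V {i : ℕ} (hi : i < 8) : ∀ k ∈ V y (i + 1), y i * k * (y i)⁻¹ ∈ V y (i + 1) := by
  apply conj_closure
  rintro _ ⟨j, ⟨hj1, hj2⟩, rfl⟩
  obtain ⟨p, hp, h1, h2, h3⟩ := rel_conj i hi j hj2 (by omega)
  have h4 := hy p hp
  rw [h1, h2] at h4
  simp only [List.map_cons, List.map_nil, List.map_append, List.prod_append, List.prod_cons, List.prod_nil,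
    mul_one] at h4
  rw [h4, mul_inv_cancel_right]
  exact list_prod_mem y _ (fun l hl => mem_V y (h3 l hl).1 (h3 l hl).2)

theorem conj_V' : ∀ k ∈ V' y, y 7 * k * (y 7)⁻¹ ∈ V' y := by
  apply conj_closure
  rintro _ ⟨j, hj, rfl⟩
  obtain ⟨p, hp, h1, h2, h3⟩ := rel_conj' j hj
  have h4 := hy p hp
  rw [h1, h2] at h4
  simp only [List.map_cons, List.map_nil, List.map_append, List.prod_append, List.prod_cons, List.prod_nil,
    mul_one] at h4
  rw [h4, mul_inv_cancel_right]
  exact list_prod_mem y _ (fun l hl => mem_V' y (h3 l hl))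

theorem V_norm {i : ℕ} (hi : i < 8) : ∀ x ∈ Subgroup.zpowers (y i), ∀ k ∈ V y (i + 1), x * k * x⁻¹ ∈ V y (i + 1) :=
  conj_zpowers (od_pos i) (pow_od hy hi) (conj_V hy hi)

theorem V'_norm : ∀ x ∈ Subgroup.zpowers (y 7), ∀ k ∈ V' y, x * k * x⁻¹ ∈ V' y :=
  conj_zpowers (od_pos 7) (pow_od hy (by norm_num)) (conj_V' hy)

theorem V_card : ∀ m ≤ 8, ((V y (8 - m) : Subgroup Γ) : Set Γ).Finite ∧
    ((V y (8 - m) : Subgroup Γ) : Set Γ).ncard ≤ ∏ j ∈ Finset.range m, od (7 - j) := by
  intro m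
  induction m with
  | zero =>
    intro _
    rw [V_eight]
    simp
  | succ m ih =>
    intro hm
    have hk : 8 - (m + 1) < 8 := by omega
    have h1 := ih (by omega)
    have h2 : 8 - (m + 1) + 1 = 8 - m := by omega
    have h3 := V_succ y hk
    rw [h3]
    have h4 := card_sup_le (V_norm hy hk) (zpowers_card (od_pos _) (pow_od hy hk))
      (b := ∏ j ∈ Finset.range m, od (7 - j)) (by rw [h2]; exact h1)
    refine ⟨h4.1, h4.2.trans ?_⟩
    rw [Finset.prod_range_succ, mul_comm]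
    have h5 : 8 - (m + 1) = 7 - m := by omega
    rw [h5]

theorem U_card : ((V y 0 : Subgroup Γ) : Set Γ).Finite ∧ ((V y 0 : Subgroup Γ) : Set Γ).ncard ≤ 4096 := by
  have h := V_card hy 8 le_rfl
  have h2 : ∏ j ∈ Finset.range 8, od (7 - j) = 4096 := by decide +kernel
  rw [h2] at h
  exact h

theorem n1n1 : y 8 * y 8 = 1 := by
  have h := hy ([8, 8], []) (by decide +kernel)
  simpa using h

theorem n2n2 : y 9 * y 9 = 1 := by
  have h := hy ([9, 9], []) (by decide +kernel)
  simpa using h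

theorem n1_conj {j : ℕ} (h1 : 1 ≤ j) (h2 : j < 8) : y 8 * y j * y 8 = y (8 - j) := by
  have h := hy _ (rel_n1 j h2 h1)
  simp only [List.map_cons, List.map_nil, List.prod_cons, List.prod_nil, mul_one] at h
  rw [h, mul_assoc, n1n1 hy, mul_one]

theorem n2_conj {j : ℕ} (h2 : j < 7) : y 9 * y j * y 9 = y (6 - j) := by
  have h := hy _ (rel_n2 j h2)
  simp only [List.map_cons, List.map_nil, List.prod_cons, List.prod_nil, mul_one] at h
  rw [h, mul_assoc, n2n2 hy, mul_one]

omit hy in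
/-- the two reflections -/
def nn (y : ℕ → Γ) : Bool → Γ := fun s => y (if s then 9 else 8)

omit hy in
/-- recursive condition for `w⁻¹ (y j) w` to be a positive letter -/
def ok : Bool → ℕ → ℕ → Bool
  | _, 0, j => decide (j < 8)
  | false, k + 1, j => decide (1 ≤ j) && decide (j < 8) && ok true k (8 - j)
  | true, k + 1, j => decide (j < 7) && ok false k (6 - j)

theorem nninv (s : Bool) : (nn y s)⁻¹ = nn y s := by
  apply inv_eq_of_mul_eq_one_left
  cases s
  · exact n1n1 hy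
  · exact n2n2 hy

theorem w_conj (k : ℕ) : ∀ (s : Bool) (j : ℕ), ok s k j = true → (w (nn y) s k)⁻¹ * y j * w (nn y) s k ∈ V y 0 := by
  induction k with
  | zero =>
    intro s j h
    have h2 : j < 8 := by
      have : ok s 0 j = decide (j < 8) := by cases s <;> rfl
      rw [this] at h
      exact of_decide_eq_true h
    rw [w_zero, inv_one, one_mul, mul_one]
    exact mem_V y (Nat.zero_le _) h2
  | succ k ih =>
    intro s j h
    rw [w_succ]
    have h3 : (nn y s * w (nn y) (!s) k)⁻¹ * y j * (nn y s * w (nn y) (!s) k) =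
        (w (nn y) (!s) k)⁻¹ * (nn y s * y j * nn y s) * w (nn y) (!s) k := by
      rw [mul_inv_rev, nninv hy]; group
    rw [h3]
    cases s
    · have h4 : ok false (k + 1) j = (decide (1 ≤ j) && decide (j < 8) && ok true k (8 - j)) := rfl
      rw [h4, Bool.and_eq_true, Bool.and_eq_true, decide_eq_true_iff, decide_eq_true_iff] at h
      have h5 : nn y false * y j * nn y false = y (8 - j) := n1_conj hy h.1.1 h.1.2
      rw [h5]
      exact ih true _ h.2
    · have h4 : ok true (k + 1) j = (decide (j < 7) && ok false k (6 - j)) := rfl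
      rw [h4, Bool.and_eq_true, decide_eq_true_iff] at h
      have h5 : nn y true * y j * nn y true = y (6 - j) := n2_conj hy h.1
      rw [h5]
      exact ih false _ h.2

omit hy in
theorem ok_all : ∀ k < 8, ok true k 0 = true ∧ ok false k 7 = true := by decide +kernel

omit hy in
theorem conj_mem_of_zpowers {U : Subgroup Γ} {c g : Γ} (h : c⁻¹ * g * c ∈ U) :
    ∀ x ∈ Subgroup.zpowers g, c⁻¹ * x * c ∈ U := by
  rintro _ ⟨n, rfl⟩
  have : c⁻¹ * g ^ n * c = (c⁻¹ * g * c) ^ n := by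
    have h2 := conj_zpow (i := n) (a := c⁻¹) (b := g)
    rw [inv_inv] at h2
    exact h2.symm
  simp only
  rw [this]
  exact U.zpow_mem h n

omit hy in
theorem mem_zpowers_cases {g : Γ} {m : ℕ} (hm : 0 < m) (hg : g ^ m = 1) {x : Γ} (hx : x ∈ Subgroup.zpowers g) :
    ∃ k < m, x = g ^ k := by
  have hfin : IsOfFinOrder g := isOfFinOrder_iff_pow_eq_one.mpr ⟨m, hm, hg⟩
  rw [← hfin.mem_powers_iff_mem_zpowers] at hx
  obtain ⟨n, rfl⟩ := hx
  refine ⟨n % m, Nat.mod_lt _ hm, ?_⟩
  simp only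
  conv_lhs => rw [← Nat.div_add_mod n m]
  rw [pow_add, pow_mul, hg, one_pow, one_mul]

/-- rank 2 data of a group with letters satisfying the relations -/
def rd : RD Γ where
  n := nn y
  X := fun s => Subgroup.zpowers (y (if s then 7 else 0))
  K := fun s => if s then V' y else V y 1
  U := V y 0
  nn := by
    intro s
    cases s
    · exact n1n1 hy
    · exact n2n2 hy
  XU := by
    intro s
    rw [Subgroup.zpowers_le]
    cases s
    · exact mem_V y le_rfl (by norm_num)
    · exact mem_V y (by norm_num) (by norm_num)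
  KU := by
    intro s
    cases s
    · exact V_mono y (by norm_num)
    · exact V'_le y
  fac := by
    intro s u hu
    cases s
    · rw [V_succ y (by norm_num)] at hu
      exact mem_sup_fac (V_norm hy (by norm_num)) u hu
    · rw [V_zero'] at hu
      exact mem_sup_fac (V'_norm hy) u hu
  nK := by
    intro s k hk
    cases s
    · have h := conj_closure (S := y '' {i | 1 ≤ i ∧ i < 8}) (K := V y 1) (g := y 8) (by
        rintro _ ⟨j, ⟨h1, h2⟩, rfl⟩
        have h3 : (y 8)⁻¹ = y 8 := nninv hy false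
        rw [h3, n1_conj hy h1 h2]
        exact mem_V y (by omega) (by omega)) k hk
      have h3 : (y 8)⁻¹ = y 8 := nninv hy false
      rw [h3] at h
      exact h
    · have h := conj_closure (S := y '' {i | i < 7}) (K := V' y) (g := y 9) (by
        rintro _ ⟨j, h1, rfl⟩
        have h3 : (y 9)⁻¹ = y 9 := nninv hy true
        have h1' : j < 7 := h1
        rw [h3, n2_conj hy h1]
        exact mem_V' y (by omega)) k hk
      have h3 : (y 9)⁻¹ = y 9 := nninv hy true
      rw [h3] at h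
      exact h
  rk1 := by
    intro s x hx hx1
    cases s
    · obtain ⟨k, hk, rfl⟩ := mem_zpowers_cases (m := 2) (by norm_num) (pow_od hy (i := 0) (by norm_num)) hx
      have hk1 : k = 1 := by
        rcases k with _ | _ | k
        · exact absurd (pow_zero _) hx1
        · rfl
        · omega
      subst hk1
      have h := hy ([8, 0, 8], [0, 8, 0]) (by decide +kernel)
      simp only [List.map_cons, List.map_nil, List.prod_cons, List.prod_nil, mul_one, ← mul_assoc] at h
      exact ⟨y 0, Subgroup.mem_zpowers _, y 0, Subgroup.mem_zpowers _, by rw [pow_one]; exact h⟩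
    · obtain ⟨k, hk, rfl⟩ := mem_zpowers_cases (m := 4) (by norm_num) (pow_od hy (i := 7) (by norm_num)) hx
      have hz : ∀ n : ℕ, y 7 ^ n ∈ Subgroup.zpowers (y 7) := fun n => Subgroup.npow_mem_zpowers _ _
      have e1 := hy ([9, 7, 9], [7, 9, 7, 7]) (by decide +kernel)
      have e2 := hy ([9, 7, 7, 9], [7, 7, 7, 9, 7]) (by decide +kernel)
      have e3 := hy ([9, 7, 7, 7, 9], [7, 7, 9, 7, 7, 7]) (by decide +kernel)
      simp only [List.map_cons, List.map_nil, List.prod_cons, List.prod_nil, mul_one] at e1 e2 e3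
      rcases k with _ | _ | _ | _ | k
      · exact absurd (pow_zero _) hx1
      · refine ⟨_, hz 1, _, hz 2, ?_⟩
        show y 9 * y 7 ^ (0 + 1) * y 9 = y 7 ^ 1 * y 9 * y 7 ^ 2
        simp only [pow_succ, pow_zero, one_mul, mul_assoc] at *
        exact e1
      · refine ⟨_, hz 3, _, hz 1, ?_⟩
        show y 9 * y 7 ^ (0 + 1 + 1) * y 9 = y 7 ^ 3 * y 9 * y 7 ^ 1
        simp only [pow_succ, pow_zero, one_mul, mul_assoc] at *
        exact e2
      · refine ⟨_, hz 2, _, hz 3, ?_⟩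
        show y 9 * y 7 ^ (0 + 1 + 1 + 1) * y 9 = y 7 ^ 2 * y 9 * y 7 ^ 3
        simp only [pow_succ, pow_zero, one_mul, mul_assoc] at *
        exact e3
      · omega
  wX := by
    intro s k hk
    cases s
    · exact conj_mem_of_zpowers (w_conj hy k true 0 (ok_all k hk).1)
    · exact conj_mem_of_zpowers (w_conj hy k false 7 (ok_all k hk).2)
  w8 := by
    have h := hy ([8, 9, 8, 9, 8, 9, 8, 9], [9, 8, 9, 8, 9, 8, 9, 8]) (by decide +kernel)
    simp only [List.map_cons, List.map_nil, List.prod_cons, List.prod_nil, mul_one] at h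
    simp only [w_succ, w_zero, Bool.not_false, Bool.not_true, mul_one]
    exact h

theorem rd_G : (rd hy).G = Subgroup.closure (y '' {i | i < 10}) := by
  apply le_antisymm
  · unfold RD.G
    rw [Subgroup.closure_le]
    rintro x (hx | ⟨s, rfl⟩)
    · have : (V y 0) ≤ Subgroup.closure (y '' {i | i < 10}) :=
        Subgroup.closure_mono (Set.image_mono (fun i hi => by
          have : i < 8 := hi.2
          show i < 10
          omega))
      exact this hx
    · cases s
      · exact Subgroup.subset_closure ⟨8, by show 8 < 10; norm_num, rfl⟩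
      · exact Subgroup.subset_closure ⟨9, by show 9 < 10; norm_num, rfl⟩
  · rw [Subgroup.closure_le]
    rintro _ ⟨i, hi, rfl⟩
    have hi' : i < 10 := hi
    by_cases h8 : i < 8
    · exact Subgroup.subset_closure (Or.inl (mem_V y (Nat.zero_le _) h8))
    · by_cases h : i = 8
      · subst h; exact Subgroup.subset_closure (Or.inr ⟨false, rfl⟩)
      · have : i = 9 := by omega
        subst this; exact Subgroup.subset_closure (Or.inr ⟨true, rfl⟩)

/-- The group generated by letters satisfying the relations has order at most 35942400. -/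
theorem card_le : Finite (Subgroup.closure (y '' {i | i < 10})) ∧
    Nat.card (Subgroup.closure (y '' {i | i < 10})) ≤ 35942400 := by
  rw [← rd_G hy]
  apply RD.G_card
  · intro s
    cases s
    · exact zpowers_card (by norm_num) (pow_od hy (i := 0) (by norm_num))
    · exact zpowers_card (by norm_num) (pow_od hy (i := 7) (by norm_num))
  · exact U_card hy

end Cfsg.Agent.ChevalleyStructure.Tits.Sat
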